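import Cfsg.Agent.Lib.Derangements.CyclicTimesZ.Basic
import Cfsg.Agent.Lib.PermGroups.Basic
import Cfsg.Agent.Lib.BaseThree.Triples
import Cfsg.Agent.S0054
import Mathlib.GroupTheory.GroupAction.Primitive
import Mathlib.GroupTheory.GroupAction.MultipleTransitivity

/-!
# Doubly transitive groups with a Z-group as point stabilizer: solvable normal subgroups

If such a group, of even degree `n`, contains a cyclic semiregular subgroup of order the 2-part
of `n`, then a nontrivial solvable normal subgroup forces `n ∈ {2, 4}`.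
-/

set_option autoImplicit false
set_option linter.style.haveILetI false

open Subgroup MulAction

namespace CfsgLib.Derangements.CyclicTimesZ

universe u

/-- Doubly transitive, the stabilizer of `a` a Z-group, and a semiregular cyclic subgroup of
order the 2-part of the degree. -/
structure Hyp (Y : Type u) [Group Y] {Ω : Type u} [MulAction Y Ω] (a : Ω) : Prop where
  two : IsMultiplyPretransitive Y Ω 2
  zg : IsZGroup (stabilizer Y a)
  semi : ∃ c : Y, orderOf c = 2 ^ (Nat.card Ω).factorization 2 ∧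
    ∀ g ∈ Subgroup.zpowers c, ∀ x : Ω, g • x = x → g = 1

section Regular

variable {Y : Type*} [Group Y] {Ω : Type*} [MulAction Y Ω]

/-- A nontrivial abelian normal subgroup of a faithful primitive group is regular and
self-centralizing. -/
theorem regular_of_abelian_normal [FaithfulSMul Y Ω] [IsPreprimitive Y Ω] (a : Ω) (T : Subgroup Y)
    [T.Normal] (hT : T ≠ ⊥) (hc : ∀ x ∈ T, ∀ y ∈ T, x * y = y * x) :
    IsPretransitive T Ω ∧ Nat.card T = Nat.card Ω ∧ (∀ x : Ω, stabilizer T x = ⊥) ∧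
      Subgroup.centralizer (T : Set Y) ≤ T := by
  have htr : IsPretransitive T Ω := IsQuasiPreprimitive.isPretransitive_of_normal fun hfix => hT <| by
    rw [Subgroup.eq_bot_iff_forall]
    intro t ht
    exact eq_of_smul_eq_smul (α := Ω) fun x => by
      rw [one_smul]
      exact (hfix.ge (Set.mem_univ x) : x ∈ fixedPoints T Ω) ⟨t, ht⟩
  haveI := htr
  have hcen : ∀ g : Y, (∀ t ∈ T, g * t = t * g) → ∀ x : Ω, g • x = x → g = 1 := by
    intro g hg x hx
    refine eq_of_smul_eq_smul (α := Ω) fun y => ?_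
    obtain ⟨⟨t, ht⟩, rfl⟩ := exists_smul_eq T x y
    rw [one_smul]
    show g • t • x = t • x
    rw [← mul_smul, hg t ht, mul_smul, hx]
  have hreg : ∀ x : Ω, stabilizer T x = ⊥ := fun x => by
    rw [Subgroup.eq_bot_iff_forall]
    intro t ht
    exact Subtype.ext (hcen t (fun s hs => hc t t.2 s hs) x ht)
  refine ⟨htr, CfsgLib.PermGroups.card_eq_of_regular T (hreg a), hreg, fun g hg => ?_⟩
  obtain ⟨⟨t, ht⟩, hta⟩ := exists_smul_eq T a (g • a)
  have h1 : t⁻¹ * g = 1 := hcen _ (fun s hs => by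
    have h2 : g * s = s * g := (Subgroup.mem_centralizer_iff.1 hg s hs).symm
    have h3 : t⁻¹ * s = s * t⁻¹ := hc _ (inv_mem ht) _ hs
    rw [mul_assoc, h2, ← mul_assoc, h3, mul_assoc]) a
    (by
      have : t • a = g • a := hta
      rw [mul_smul, ← this, inv_smul_smul])
  rwa [← inv_mul_eq_one.1 h1]

end Regular

variable {Y : Type u} [Group Y] [Finite Y] {Ω : Type u} [MulAction Y Ω] [Finite Ω]
  [FaithfulSMul Y Ω] {a : Ω}

theorem Hyp.pretransitive (h : Hyp Y a) : IsPretransitive Y Ω :=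
  haveI := h.two
  MulAction.isPretransitive_of_is_two_pretransitive

/-- A regular normal subgroup of exponent a prime, from a solvable normal subgroup. -/
theorem Hyp.exists_elementary (h : Hyp Y a) (N : Subgroup Y) [N.Normal] [Group.IsSolvable N]
    (hN : N ≠ ⊥) :
    ∃ (E : Subgroup Y) (p : ℕ), E.Normal ∧ p.Prime ∧ Nat.card E = Nat.card Ω ∧
      (∀ e ∈ E, e ^ p = 1) ∧ (∀ x ∈ E, ∀ y ∈ E, x * y = y * x) ∧
      Subgroup.centralizer (E : Set Y) ≤ E := by
  classical
  haveI := h.two
  haveI : IsPreprimitive Y Ω := MulAction.isPreprimitive_of_is_two_pretransitive h.two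
  have hex : ∃ k, derivedSeries N k = ⊥ := (isSolvable_def N).1 inferInstance
  obtain ⟨k, hk1, hk⟩ : ∃ k, derivedSeries N (k + 1) = ⊥ ∧ derivedSeries N k ≠ ⊥ := by
    rcases hk : Nat.find hex with - | k
    · have := hk ▸ Nat.find_spec hex
      rw [derivedSeries_zero] at this
      exact absurd ((Subgroup.subsingleton_iff.1 (subsingleton_iff_bot_eq_top.1 this.symm))) (fun hs => hN (Subgroup.eq_bot_of_subsingleton N))
    · exact ⟨k, hk ▸ Nat.find_spec hex, Nat.find_min hex (by omega)⟩
  haveI := derivedSeries_characteristic N k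
  set E := (derivedSeries N k).map N.subtype with hE
  haveI : E.Normal := ConjAct.normal_of_characteristic_of_normal
  have hcomm : ∀ x ∈ E, ∀ y ∈ E, x * y = y * x := by
    rintro _ ⟨x, hx, rfl⟩ _ ⟨y, hy, rfl⟩
    have := Subgroup.commutator_mem_commutator hx hy
    rw [← derivedSeries_succ, hk1, Subgroup.mem_bot, commutatorElement_eq_one_iff_mul_comm] at this
    rw [← map_mul, this, map_mul]
  have hEne : E ≠ ⊥ := fun he => hk ((Subgroup.map_eq_bot_iff_of_injective _ N.subtype_injective).1 he)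
  obtain ⟨htr, hcard, hreg, hcent⟩ := regular_of_abelian_normal a E hEne hcomm
  haveI : Nonempty Ω := ⟨a⟩
  obtain ⟨-, p, hp, hexp⟩ := Cfsg.Agent.S0054.result h.two E htr hreg
  exact ⟨E, p, inferInstance, hp, hcard, hexp, hcomm, hcent⟩

/-- The orders of the groups in a strictly decreasing chain of 2-groups at least halve. -/
theorem card_image_iterate {E : Type*} [CommGroup E] [Finite E] {k : ℕ}
    (hk : Nat.card E = 2 ^ k) (D : E →* E) {l : ℕ} (hl : ∀ e, D^[l] e = 1) :
    ∀ e, D^[k] e = 1 := by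
  let R : ℕ → Subgroup E := fun j => (fun T : Subgroup E => T.map D)^[j] ⊤
  have hmem : ∀ (j : ℕ) (e : E), D^[j] e ∈ R j := by
    intro j
    induction j with
    | zero => exact fun e => Subgroup.mem_top e
    | succ j ih =>
      intro e
      show _ ∈ (fun T : Subgroup E => T.map D)^[j + 1] ⊤
      rw [Function.iterate_succ_apply', Function.iterate_succ_apply']
      exact ⟨_, ih e, rfl⟩
  have hRs : ∀ j, R (j + 1) = (R j).map D := fun j => Function.iterate_succ_apply' _ _ _
  have hanti : ∀ j, R (j + 1) ≤ R j := by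
    intro j
    induction j with
    | zero => exact le_top
    | succ j ih => exact (hRs (j + 1)).le.trans ((Subgroup.map_mono ih).trans (hRs j).ge)
  have hRsub : ∀ j, ∀ x ∈ R j, ∃ e, D^[j] e = x := by
    intro j
    induction j with
    | zero => exact fun x _ => ⟨x, rfl⟩
    | succ j ih =>
      rw [hRs]
      rintro _ ⟨y, hy, rfl⟩
      obtain ⟨e, rfl⟩ := ih y hy
      exact ⟨e, Function.iterate_succ_apply' _ _ _⟩
  have hhalf : ∀ j, R j = ⊥ ∨ 2 ^ j * Nat.card (R j) ≤ 2 ^ k := by
    intro j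
    induction j with
    | zero =>
      right
      show 2 ^ 0 * Nat.card (⊤ : Subgroup E) ≤ _
      rw [pow_zero, one_mul, Subgroup.card_top, hk]
    | succ j ih =>
      rcases ih with ih | ih
      · exact Or.inl (le_bot_iff.1 ((hanti j).trans ih.le))
      by_cases he : R (j + 1) = R j
      · left
        have hst : ∀ i, R (j + i) = R j := by
          intro i
          induction i with
          | zero => rfl
          | succ i hi => rw [← add_assoc, hRs, hi, ← hRs]; exact he
        rw [he, Subgroup.eq_bot_iff_forall, ← hst l]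
        intro x hx
        obtain ⟨e, rfl⟩ := hRsub _ x hx
        rw [Nat.add_comm, Function.iterate_add_apply, hl]
      · right
        have hlt : Nat.card (R (j + 1)) < Nat.card (R j) := by
          refine lt_of_le_of_ne (Subgroup.card_le_of_le (hanti j)) fun h => he ?_
          exact Subgroup.eq_of_le_of_card_ge (hanti j) h.ge
        obtain ⟨q, hq⟩ := Subgroup.card_dvd_of_le (hanti j)
        have h2 : 2 * Nat.card (R (j + 1)) ≤ Nat.card (R j) := by
          rw [hq] at hlt ⊢
          rcases q with - | - | q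
          · simp at hlt
          · simp at hlt
          · nlinarith
        calc 2 ^ (j + 1) * Nat.card (R (j + 1)) = 2 ^ j * (2 * Nat.card (R (j + 1))) := by ring
          _ ≤ 2 ^ j * Nat.card (R j) := Nat.mul_le_mul_left _ h2
          _ ≤ 2 ^ k := ih
  intro e
  have he := hmem k e
  rcases hhalf k with h | h
  · rwa [h, Subgroup.mem_bot] at he
  · have h1 : Nat.card (R k) ≤ 1 := le_of_mul_le_mul_left (by rwa [mul_one]) (by positivity : 0 < 2 ^ k)
    rw [Subgroup.eq_bot_of_card_le _ h1, Subgroup.mem_bot] at he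
    exact he

/-- A nontrivial solvable normal subgroup forces the even degree to be 2 or 4. -/
theorem Hyp.affine_card (h : Hyp Y a) (hn : Even (Nat.card Ω)) (N : Subgroup Y) [N.Normal]
    [Group.IsSolvable N] (hN : N ≠ ⊥) : Nat.card Ω = 2 ∨ Nat.card Ω = 4 := by
  classical
  haveI : Fact (Nat.Prime 2) := ⟨Nat.prime_two⟩
  haveI : Nonempty Ω := ⟨a⟩
  obtain ⟨E, p, hEn, hp, hcard, hexp, hcomm, hcent⟩ := h.exists_elementary N hN
  haveI := Fact.mk hp
  haveI := hEn
  obtain rfl : p = 2 := by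
    obtain ⟨e, he⟩ := exists_prime_orderOf_dvd_card' (G := E) 2 (hcard ▸ hn.two_dvd)
    have h1 : orderOf e ∣ p := orderOf_dvd_of_pow_eq_one (Subtype.ext (by simpa using hexp _ e.2))
    rw [he] at h1
    exact ((Nat.prime_dvd_prime_iff_eq Nat.prime_two hp).1 h1).symm
  obtain ⟨k, hk⟩ := IsPGroup.iff_card.1
    (fun e => ⟨1, Subtype.ext (by simpa using hexp _ e.2)⟩ : IsPGroup 2 E)
  have hnk : Nat.card Ω = 2 ^ k := hcard ▸ hk
  by_contra! hcon
  have hk3 : 3 ≤ k := by
    by_contra hlt
    have h1 := hn.two_dvd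
    rw [hnk] at hcon h1
    obtain rfl | rfl | rfl : k = 0 ∨ k = 1 ∨ k = 2 := by omega
    · norm_num at h1
    · exact hcon.1 (by norm_num)
    · exact hcon.2 (by norm_num)
  obtain ⟨c, hc, hcsemi⟩ := h.semi
  rw [hnk, Nat.prime_two.factorization_pow, Finsupp.single_eq_same] at hc
  have hinvol : ∀ e ∈ E, e⁻¹ = e := fun e he => inv_eq_of_mul_eq_one_right (by rw [← pow_two, hexp e he])
  have hconj : ∀ (g : Y), ∀ e ∈ E, g * e * g⁻¹ ∈ E := fun g e he => hEn.conj_mem e he g
  letI : CommGroup E := { (inferInstance : Group E) with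
    mul_comm := fun x y => Subtype.ext (hcomm x x.2 y y.2) }
  let D : Y → E →* E := fun g =>
    { toFun := fun e => ⟨g * e * g⁻¹ * e, mul_mem (hconj g e e.2) e.2⟩
      map_one' := Subtype.ext (by simp)
      map_mul' := fun x y => Subtype.ext (by
        show g * (x * y) * g⁻¹ * (x * y) = g * x * g⁻¹ * x * (g * y * g⁻¹ * y)
        calc g * ((x : Y) * y) * g⁻¹ * ((x : Y) * y)
            = g * x * g⁻¹ * ((g * y * g⁻¹) * x) * y := by group
          _ = g * x * g⁻¹ * (x * (g * y * g⁻¹)) * y := by rw [hcomm _ (hconj g y y.2) _ x.2]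
          _ = _ := by group) }
  have hDapp : ∀ g e, ((D g e : E) : Y) = g * e * g⁻¹ * e := fun g e => rfl
  have hsq : ∀ g e, D (g * g) e = D g (D g e) := fun g e => Subtype.ext (by
    rw [hDapp, hDapp, hDapp]
    set x := g * (e : Y) * g⁻¹ with hx
    have hxE : x ∈ E := hconj g e e.2
    calc g * g * (e : Y) * (g * g)⁻¹ * e = g * x * g⁻¹ * e := by rw [hx]; group
      _ = g * x * g⁻¹ * (x * x) * e := by
        rw [show x * x = 1 by rw [← pow_two]; exact hexp x hxE, mul_one]
      _ = (g * x * g⁻¹ * x) * (x * (e : Y)) := by group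
      _ = g * (x * e) * g⁻¹ * (x * e) := by
        have e1 : g * (x * (e : Y)) * g⁻¹ = g * x * g⁻¹ * x := by rw [hx]; group
        rw [e1])
  have hpow : ∀ (m : ℕ) (e : E), D (c ^ 2 ^ m) e = (D c)^[2 ^ m] e := by
    intro m
    induction m with
    | zero => intro e; simp
    | succ m ih =>
      intro e
      rw [pow_succ, mul_two, pow_add, hsq, ih, ih, ← Function.iterate_add_apply]
  have hnil : ∀ e, (D c)^[2 ^ k] e = 1 := fun e => by
    rw [← hpow, ← hc, pow_orderOf_eq_one]
    exact Subtype.ext (by rw [hDapp]; simp [← pow_two, hexp _ e.2])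
  have hzero := card_image_iterate hk (D c) hnil
  have hcen : ∀ m, k ≤ 2 ^ m → c ^ 2 ^ m ∈ E := fun m hm => hcent <| by
    rw [Subgroup.mem_centralizer_iff]
    intro e he
    have h1 := hpow m ⟨e, he⟩
    rw [← Nat.sub_add_cancel hm, Function.iterate_add_apply, hzero,
      Nat.sub_add_cancel hm] at h1
    rw [iterate_map_one] at h1
    have h2 : c ^ 2 ^ m * e * (c ^ 2 ^ m)⁻¹ * e = 1 := congrArg Subtype.val h1
    rw [mul_eq_one_iff_eq_inv, hinvol e he, mul_inv_eq_iff_eq_mul] at h2
    exact h2.symm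
  have hlow : ∀ m, k ≤ 2 ^ m → k ≤ m + 1 := fun m hm => by
    have h1 := hexp _ (hcen m hm)
    rw [← pow_mul, ← pow_succ, ← orderOf_dvd_iff_pow_eq_one, hc] at h1
    exact (Nat.pow_dvd_pow_iff_le_right (by norm_num)).1 h1
  by_cases hk4 : 4 ≤ k
  · obtain ⟨j, rfl⟩ : ∃ j, k = j + 4 := ⟨k - 4, by omega⟩
    have : j + 4 ≤ 2 ^ (j + 2) := by
      have := Nat.lt_two_pow_self (n := j)
      rw [pow_add]
      omega
    have := hlow (j + 2) this
    omega
  -- degree eight
  obtain rfl : k = 3 := by omega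
  have hc4 : c ^ 4 ∈ E := hcen 2 (by norm_num)
  have hc2 : c ^ 2 ∉ E := fun hh => by
    have := hexp _ hh
    rw [← pow_mul, ← orderOf_dvd_iff_pow_eq_one, hc] at this
    norm_num at this
  haveI := h.two
  haveI : IsPreprimitive Y Ω := MulAction.isPreprimitive_of_is_two_pretransitive h.two
  have hEne : E ≠ ⊥ := fun he => by rw [he, Subgroup.card_bot] at hk; norm_num at hk
  obtain ⟨htr, -, hreg, -⟩ := regular_of_abelian_normal a E hEne hcomm
  haveI := htr
  set B := stabilizer Y a with hB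
  obtain ⟨⟨e, he⟩, hea⟩ := exists_smul_eq E a (c • a)
  have hea' : e • a = c • a := hea
  have hbB : e⁻¹ * c ∈ B := by
    show (e⁻¹ * c) • a = a
    rw [mul_smul, ← hea', inv_smul_smul]
  -- the action of `e⁻¹ * c` on `E` is that of `c`
  have hbE : ∀ x ∈ E, e⁻¹ * c * x * (e⁻¹ * c)⁻¹ = c * x * c⁻¹ := by
    intro x hx
    calc e⁻¹ * c * x * (e⁻¹ * c)⁻¹ = e⁻¹ * (c * x * c⁻¹) * e := by group
      _ = e⁻¹ * (e * (c * x * c⁻¹)) := by rw [mul_assoc, hcomm _ (hconj c x hx) e he]
      _ = _ := by group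
  have hcentB : ∀ g ∈ B, g ∈ E → g = 1 := fun g hg hgE => by
    have : (⟨g, hgE⟩ : E) ∈ stabilizer E a := hg
    rw [hreg a, Subgroup.mem_bot] at this
    exact congrArg Subtype.val this
  have hbpow : ∀ (i : ℕ), ∀ x ∈ E,
      (e⁻¹ * c) ^ i * x * ((e⁻¹ * c) ^ i)⁻¹ = c ^ i * x * (c ^ i)⁻¹ := by
    intro i
    induction i with
    | zero => simp
    | succ i ih =>
      intro x hx
      calc (e⁻¹ * c) ^ (i + 1) * x * ((e⁻¹ * c) ^ (i + 1))⁻¹
          = (e⁻¹ * c) * ((e⁻¹ * c) ^ i * x * ((e⁻¹ * c) ^ i)⁻¹) * (e⁻¹ * c)⁻¹ := by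
            generalize e⁻¹ * c = w; rw [pow_succ']; group
        _ = c * (c ^ i * x * (c ^ i)⁻¹) * c⁻¹ := by rw [ih x hx, hbE _ (hconj _ _ hx)]
        _ = _ := by rw [pow_succ']; group
  set b : B := ⟨e⁻¹ * c, hbB⟩ with hb
  have hb4 : b ^ 4 = 1 := Subtype.ext <| hcentB _ (b ^ 4).2 <| hcent <| by
    rw [Subgroup.mem_centralizer_iff]
    intro x hx
    have h1 := hbpow 4 x hx
    rw [hcomm _ hc4 _ hx, mul_inv_cancel_right, mul_inv_eq_iff_eq_mul] at h1
    exact h1.symm
  have hb2 : b ^ 2 ≠ 1 := fun hh => hc2 <| hcent <| by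
    rw [Subgroup.mem_centralizer_iff]
    intro x hx
    have h1 := hbpow 2 x hx
    rw [show (e⁻¹ * c) ^ 2 = 1 from congrArg Subtype.val hh, one_mul, inv_one, mul_one] at h1
    conv_lhs => rw [h1]
    group
  -- the stabilizer acting on the seven other points
  have hcardΩ : Nat.card (SubMulAction.ofStabilizer Y a) = 7 := by
    show Nat.card {x // x ∈ SubMulAction.ofStabilizer Y a} = 7
    have h1 := SubMulAction.nat_card_ofStabilizer_add_one_eq (G := Y) a
    omega
  haveI : IsPretransitive B (SubMulAction.ofStabilizer Y a) := ⟨fun x y => by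
    obtain ⟨g, hg1, hg2⟩ := MulAction.is_two_pretransitive_iff.1 h.two
      (Ne.symm x.2 : a ≠ (x : Ω)) (Ne.symm y.2 : a ≠ (y : Ω))
    exact ⟨⟨g, hg1⟩, Subtype.ext hg2⟩⟩
  haveI : IsPreprimitive B (SubMulAction.ofStabilizer Y a) :=
    IsPreprimitive.of_prime_card (by rw [hcardΩ]; norm_num)
  haveI : FaithfulSMul B (SubMulAction.ofStabilizer Y a) := ⟨fun {g g'} hg => by
    refine Subtype.ext (eq_of_smul_eq_smul (α := Ω) fun x => ?_)
    by_cases hx : x = a
    · subst hx
      exact g.2.trans g'.2.symm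
    · exact congrArg Subtype.val (hg ⟨x, hx⟩)⟩
  haveI := h.zg
  haveI : Nonempty (SubMulAction.ofStabilizer Y a) := (Nat.card_pos_iff.1 (hcardΩ ▸ (by norm_num))).1
  obtain ⟨pt⟩ := (inferInstance : Nonempty (SubMulAction.ofStabilizer Y a))
  obtain ⟨T, hTn, hTne, hTc⟩ : ∃ T : Subgroup B, T.Normal ∧ T ≠ ⊥ ∧
      ∀ x ∈ T, ∀ y ∈ T, x * y = y * x := by
    by_cases hB' : commutator B = ⊥
    · refine ⟨⊤, inferInstance, fun ht => ?_, fun x _ y _ => ?_⟩
      · exact hb2 (by
          rw [Subgroup.eq_bot_iff_forall] at ht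
          rw [ht b (Subgroup.mem_top b), one_pow])
      · have := Subgroup.commutator_mem_commutator (Subgroup.mem_top x) (Subgroup.mem_top y)
        rw [← _root_.commutator_def, hB', Subgroup.mem_bot] at this
        exact commutatorElement_eq_one_iff_mul_comm.1 this
    · haveI := IsZGroup.isCyclic_commutator (G := B)
      refine ⟨commutator B, inferInstance, hB', fun x hx y hy => ?_⟩
      letI := IsCyclic.commGroup (α := commutator B)
      exact congrArg Subtype.val (mul_comm (⟨x, hx⟩ : commutator B) ⟨y, hy⟩)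
  haveI := hTn
  obtain ⟨-, hT7, -, hTcent⟩ := regular_of_abelian_normal pt T hTne hTc
  rw [hcardΩ] at hT7
  haveI : IsCyclic T := by
    haveI : Fact (Nat.Prime 7) := ⟨by norm_num⟩
    exact isCyclic_of_prime_card hT7
  have h6 : orderOf (MulAut.conjNormal (H := T) b) ∣ 6 := by
    have := orderOf_dvd_natCard (MulAut.conjNormal (H := T) b)
    rwa [IsCyclic.card_mulAut, hT7] at this
  have h4 : orderOf (MulAut.conjNormal (H := T) b) ∣ 4 :=
    orderOf_dvd_of_pow_eq_one (by rw [← map_pow, hb4, map_one])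
  have h2 : MulAut.conjNormal (H := T) (b ^ 2) = 1 := by
    rw [map_pow, ← orderOf_dvd_iff_pow_eq_one]
    exact Nat.dvd_gcd h6 h4
  have hmem : b ^ 2 ∈ T := hTcent <| by
    rw [Subgroup.mem_centralizer_iff]
    intro x hx
    have := congrArg Subtype.val (DFunLike.congr_fun h2 ⟨x, hx⟩)
    rw [MulAut.conjNormal_apply] at this
    exact (mul_inv_eq_iff_eq_mul.1 this).symm
  have h7 := orderOf_dvd_natCard (⟨b ^ 2, hmem⟩ : T)
  rw [hT7, Subgroup.orderOf_mk] at h7
  have h2' : orderOf (b ^ 2) ∣ 2 := orderOf_dvd_of_pow_eq_one (by rw [← pow_mul]; exact hb4)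
  have h17 : orderOf (b ^ 2) ∣ Nat.gcd 7 2 := Nat.dvd_gcd h7 h2'
  exact hb2 (orderOf_eq_one_iff.1 (Nat.eq_one_of_dvd_one (by simpa using h17)))

theorem isSolvable_of_card_le_four (hn : Nat.card Ω ≤ 4) : Group.IsSolvable Y := by
  haveI := CfsgLib.BaseThree.isSolvable_perm_fin_four
  obtain ⟨e⟩ : Nonempty (Ω ↪ Fin 4) :=
    ⟨(Finite.equivFin Ω).toEmbedding.trans (Fin.castLEEmb hn)⟩
  exact solvable_of_solvable_injective (f := (Equiv.Perm.viaEmbeddingHom e).comp (MulAction.toPermHom Y Ω))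
    ((Equiv.Perm.viaEmbeddingHom_injective e).comp MulAction.toPerm_injective)

theorem Hyp.no_solvable_normal (h : Hyp Y a) (hns : ¬ Group.IsSolvable Y) (hn : Even (Nat.card Ω))
    (N : Subgroup Y) [N.Normal] [Group.IsSolvable N] : N = ⊥ := by
  by_contra hN
  refine hns (isSolvable_of_card_le_four (Ω := Ω) ?_)
  rcases h.affine_card hn N hN with h2 | h2 <;> omega

theorem Hyp.oddCore_eq_bot (h : Hyp Y a) (hns : ¬ Group.IsSolvable Y) (hn : Even (Nat.card Ω)) :
    Cfsg.oddCore Y = ⊥ := by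
  haveI : (Cfsg.oddCore Y).Normal := inferInstance
  haveI : Group.IsSolvable (Cfsg.oddCore Y) := Cfsg.Agent.S0205.result
    (CfsgLib.Cores.odd_card_oddCore)
  exact h.no_solvable_normal hns hn _

theorem Hyp.no_isolated (h : Hyp Y a) (hns : ¬ Group.IsSolvable Y) (hn : Even (Nat.card Ω))
    (z : Y) : ¬ Cfsg.IsIsolatedInvolution z :=
  haveI : Group.IsSolvable (Subgroup.center Y) :=
    isSolvable_of_comm fun x y => Subtype.ext (Subgroup.mem_center_iff.1 y.2 x)
  not_isolated (h.oddCore_eq_bot hns hn) (h.no_solvable_normal hns hn _) z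

end CfsgLib.Derangements.CyclicTimesZ
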