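import Cfsg.Agent.Lib.TwoGroupTricks.Isolated
import Cfsg.Agent.Lib.Involutions.BrauerSuzuki
import Cfsg.Agent.Lib.GW.Reduction
import Cfsg.Agent.Lib.Twisted.WeylPerm
import Mathlib.GroupTheory.SpecificGroups.ZGroup
import Cfsg.Prelude.Def_TwoFusion

/-!
# Tools for products of a cyclic group and a Z-group

Involutions in Z-groups, and Sylow 2-subgroups with a cyclic subgroup of index two in groups
without isolated involutions.
-/

set_option autoImplicit false

open Subgroup

namespace CfsgLib.Derangements.CyclicTimesZ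

universe u

variable {Y : Type u} [Group Y] [Finite Y]

theorem orderOf_eq_two_of_mul_self {x : Y} (h : x * x = 1) (h1 : x ≠ 1) : orderOf x = 2 :=
  orderOf_eq_prime (by rw [pow_two]; exact h) h1

theorem mul_self_of_orderOf {x : Y} (h : orderOf x = 2) : x * x = 1 := by
  rw [← pow_two, ← h]; exact pow_orderOf_eq_one x

theorem ne_one_of_orderOf {x : Y} (h : orderOf x = 2) : x ≠ 1 := by
  rintro rfl; rw [orderOf_one] at h; omega

theorem orderOf_conj (g x : Y) : orderOf (g * x * g⁻¹) = orderOf x :=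
  (MulAut.conj g).orderOf_eq x

/-- In a finite cyclic group there is at most one involution. -/
theorem eq_of_isCyclic {C : Type*} [Group C] [Finite C] [IsCyclic C] {x y : C}
    (hx : x * x = 1) (hx1 : x ≠ 1) (hy : y * y = 1) (hy1 : y ≠ 1) : x = y := by
  classical
  haveI := Fintype.ofFinite C
  by_contra hne
  have h := IsCyclic.card_pow_eq_one_le (α := C) (n := 2) two_pos
  have hsub : ({1, x, y} : Finset C) ⊆ Finset.univ.filter fun a => a ^ 2 = 1 := by
    intro a ha
    simp only [Finset.mem_insert, Finset.mem_singleton] at ha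
    rcases ha with rfl | rfl | rfl <;> simp [pow_two, hx, hy]
  have h3 : ({1, x, y} : Finset C).card = 3 := by
    rw [Finset.card_insert_of_notMem, Finset.card_insert_of_notMem, Finset.card_singleton]
    · simpa using hne
    · simp [Ne.symm hx1, Ne.symm hy1]
  have := (Finset.card_le_card hsub).trans h
  omega

/-- Commuting involutions of a Z-group are equal. -/
theorem eq_of_commute {H : Subgroup Y} [IsZGroup H] {x y : Y} (hxH : x ∈ H) (hyH : y ∈ H)
    (hx : x * x = 1) (hx1 : x ≠ 1) (hy : y * y = 1) (hy1 : y ≠ 1) (hc : x * y = y * x) : x = y := by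
  haveI : Fact (Nat.Prime 2) := ⟨Nat.prime_two⟩
  set K : Subgroup H := Subgroup.closure {(⟨x, hxH⟩ : H), ⟨y, hyH⟩} with hK
  haveI hcomm : IsMulCommutative K := Subgroup.isMulCommutative_closure (by
    simp only [Set.mem_insert_iff, Set.mem_singleton_iff]
    rintro a (rfl | rfl) b (rfl | rfl)
    exacts [rfl, Subtype.ext hc, Subtype.ext hc.symm, rfl])
  have h2 : ∀ a ∈ K, a * a = 1 := by
    intro a ha
    induction ha using Subgroup.closure_induction with
    | mem z hz => rcases hz with rfl | rfl <;> exact Subtype.ext (by assumption)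
    | one => exact one_mul 1
    | mul z w hz hw hz' hw' =>
      have : z * w = w * z := congrArg Subtype.val (hcomm.is_comm.comm ⟨z, hz⟩ ⟨w, hw⟩)
      calc z * w * (z * w) = z * (w * z) * w := by group
        _ = z * (z * w) * w := by rw [this]
        _ = z * z * (w * w) := by group
        _ = 1 := by rw [hz', hw', one_mul]
    | inv z _ hz' => rw [← mul_inv_rev, hz', inv_one]
  have hp : IsPGroup 2 K := fun a => ⟨1, Subtype.ext (by simp [pow_two, h2 _ a.2])⟩
  haveI : IsCyclic K := hp.isCyclic_of_isZGroup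
  have := eq_of_isCyclic (x := (⟨⟨x, hxH⟩, Subgroup.subset_closure (by simp)⟩ : K))
    (y := ⟨⟨y, hyH⟩, Subgroup.subset_closure (by simp)⟩)
    (Subtype.ext (Subtype.ext hx)) (fun h => hx1 (congrArg (fun z : K => ((z : H) : Y)) h))
    (Subtype.ext (Subtype.ext hy)) (fun h => hy1 (congrArg (fun z : K => ((z : H) : Y)) h))
  exact congrArg (fun z : K => ((z : H) : Y)) this

/-- All involutions of a Z-group are conjugate in it. -/
theorem exists_conj_of_involutions {H : Subgroup Y} [IsZGroup H] {x y : Y} (hxH : x ∈ H)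
    (hyH : y ∈ H) (hx : orderOf x = 2) (hy : orderOf y = 2) :
    ∃ h ∈ H, h * x * h⁻¹ = y := by
  haveI : Fact (Nat.Prime 2) := ⟨Nat.prime_two⟩
  have hpz : ∀ z : H, orderOf z = 2 → IsPGroup 2 (Subgroup.zpowers z) := fun z hz =>
    IsPGroup.of_card (n := 1) (by rw [Nat.card_zpowers, hz, pow_one])
  obtain ⟨P, hP⟩ := (hpz ⟨x, hxH⟩ (by rw [← Subgroup.orderOf_coe]; exact hx)).exists_le_sylow
  obtain ⟨Q, hQ⟩ := (hpz ⟨y, hyH⟩ (by rw [← Subgroup.orderOf_coe]; exact hy)).exists_le_sylow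
  obtain ⟨h, hh⟩ := MulAction.exists_smul_eq H P Q
  refine ⟨h, h.2, ?_⟩
  have hxQ : h * ⟨x, hxH⟩ * h⁻¹ ∈ (Q : Subgroup H) := by
    rw [← hh, Sylow.coe_subgroup_smul]
    exact Subgroup.smul_mem_pointwise_smul _ (MulAut.conj h) _ (hP (Subgroup.mem_zpowers _))
  have := eq_of_isCyclic (C := (Q : Subgroup H)) (x := ⟨_, hxQ⟩)
    (y := ⟨⟨y, hyH⟩, hQ (Subgroup.mem_zpowers _)⟩)
    (Subtype.ext (mul_self_of_orderOf (by
      rw [orderOf_conj, ← Subgroup.orderOf_coe]; exact hx)))
    (fun e => ne_one_of_orderOf (x := h * ⟨x, hxH⟩ * h⁻¹) (by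
      rw [orderOf_conj, ← Subgroup.orderOf_coe]; exact hx) (congrArg Subtype.val e))
    (Subtype.ext (Subtype.ext (mul_self_of_orderOf hy)))
    (fun e => ne_one_of_orderOf hy (congrArg (fun z : (Q : Subgroup H) => ((z : H) : Y)) e))
  exact congrArg (fun z : (Q : Subgroup H) => ((z : H) : Y)) this

/-- Without centre and odd core there are no isolated involutions. -/
theorem not_isolated (hO : Cfsg.oddCore Y = ⊥) (hZ : Subgroup.center Y = ⊥) (z : Y) :
    ¬ Cfsg.IsIsolatedInvolution z := by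
  intro hz
  haveI : Fact (Nat.Prime 2) := ⟨Nat.prime_two⟩
  obtain ⟨P, hP⟩ := (CfsgLib.TwoGroupTricks.isPGroup_zpowers (p := 2)
    (x := z) ⟨1, by rw [hz.1, pow_one]⟩).exists_le_sylow
  have hzP : z ∈ (P : Subgroup Y) := hP (Subgroup.mem_zpowers z)
  have hc := CfsgLib.Involutions.mem_center_of_isolated P hz.1
    (fun g hg => CfsgLib.TwoGroupTricks.conj_eq_of_mem hz.2 P.isPGroup' hzP hg) hO
  rw [hZ, Subgroup.mem_bot] at hc
  exact ne_one_of_orderOf hz.1 hc

/-- A non-isolated involution central in a Sylow subgroup is conjugate to another element of it. -/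
theorem exists_conj_mem (hniso : ∀ z : Y, ¬ Cfsg.IsIsolatedInvolution z) (S : Sylow 2 Y) {z : Y}
    (hz : orderOf z = 2) :
    ∃ w ∈ (S : Subgroup Y), w ≠ z ∧ IsConj z w := by
  haveI : Fact (Nat.Prime 2) := ⟨Nat.prime_two⟩
  obtain ⟨g, hg, hne⟩ : ∃ g : Y, Commute z (g * z * g⁻¹) ∧ g * z * g⁻¹ ≠ z := by
    by_contra h
    push Not at h
    exact hniso z ⟨hz, h⟩
  set w := g * z * g⁻¹ with hw
  have hw2 : orderOf w = 2 := by rw [hw, orderOf_conj, hz]
  set K := Subgroup.closure ({z, w} : Set Y) with hK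
  have hKp : IsPGroup 2 K := by
    haveI hcomm : IsMulCommutative K := Subgroup.isMulCommutative_closure (by
      simp only [Set.mem_insert_iff, Set.mem_singleton_iff]
      rintro a (rfl | rfl) b (rfl | rfl)
      exacts [rfl, hg.eq, hg.symm.eq, rfl])
    have h2 : ∀ a ∈ K, a ^ 2 = 1 := by
      intro a ha
      induction ha using Subgroup.closure_induction with
      | mem x hx => rcases hx with rfl | rfl <;> (rw [pow_two]; apply mul_self_of_orderOf; assumption)
      | one => exact one_pow 2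
      | mul x y hx hy hx' hy' =>
        have : Commute x y := congrArg Subtype.val (hcomm.is_comm.comm ⟨x, hx⟩ ⟨y, hy⟩)
        rw [this.mul_pow, hx', hy', one_mul]
      | inv x _ hx' => rw [inv_pow, hx', inv_one]
    exact fun a => ⟨1, Subtype.ext (by simp [h2 _ a.2])⟩
  obtain ⟨T, hT⟩ := hKp.exists_le_sylow
  obtain ⟨h, hh⟩ := MulAction.exists_smul_eq Y T S
  have hmem : ∀ x ∈ (T : Subgroup Y), h * x * h⁻¹ ∈ (S : Subgroup Y) := fun x hx => by
    rw [← hh, Sylow.coe_subgroup_smul]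
    exact Subgroup.smul_mem_pointwise_smul _ (MulAut.conj h) _ hx
  by_cases h1 : h * z * h⁻¹ = z
  · refine ⟨h * w * h⁻¹, hmem _ (hT (Subgroup.subset_closure (by simp))), fun e => hne ?_,
      isConj_iff.2 ⟨h * g, by rw [hw]; group⟩⟩
    rw [← h1] at e
    exact mul_left_cancel (mul_right_cancel e)
  · exact ⟨_, hmem _ (hT (Subgroup.subset_closure (by simp))), h1, isConj_iff.2 ⟨h, rfl⟩⟩

/-- A Sylow 2-subgroup with a cyclic subgroup of index two and an involution `u` outside it, not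
conjugate to the involution of the cyclic subgroup: `u` inverts and there are two classes. -/
theorem index_two_inverts (hniso : ∀ z : Y, ¬ Cfsg.IsIsolatedInvolution z) (S : Sylow 2 Y)
    {c u : Y} (hcS : c ∈ (S : Subgroup Y)) (huS : u ∈ (S : Subgroup Y)) (hu : u * u = 1)
    (huc : u ∉ Subgroup.zpowers c) {r : ℕ} (hr : 2 ≤ r) (hc : orderOf c = 2 ^ r)
    (hcard : Nat.card (S : Subgroup Y) = 2 ^ (r + 1))
    (hne : ¬ IsConj u (c ^ 2 ^ (r - 1))) :
    u * c * u⁻¹ = c⁻¹ ∧ ∀ w : Y, orderOf w = 2 → IsConj u w ∨ IsConj (c ^ 2 ^ (r - 1)) w := by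
  classical
  haveI : Fact (Nat.Prime 2) := ⟨Nat.prime_two⟩
  obtain ⟨m, rfl⟩ : ∃ m, r = m + 2 := ⟨r - 2, by omega⟩
  simp only [show m + 2 - 1 = m + 1 by omega] at hne ⊢
  set z₀ := c ^ 2 ^ (m + 1) with hz₀
  have hz₀o : orderOf z₀ = 2 := by
    rw [hz₀, orderOf_pow' _ (by positivity), hc, Nat.gcd_eq_right (pow_dvd_pow 2 (by omega)),
      Nat.pow_div (by omega) two_pos, show m + 2 - (m + 1) = 1 by omega, pow_one]
  set P := Subgroup.zpowers c with hP
  have hPS : P ≤ S := Subgroup.zpowers_le.2 hcS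
  have hrel : P.relIndex S = 2 := by
    have h := Subgroup.relIndex_mul_index hPS
    have hPc : Nat.card P = 2 ^ (m + 2) := by rw [hP, Nat.card_zpowers, hc]
    have h1 := Subgroup.card_mul_index P
    have h2 := Subgroup.card_mul_index (S : Subgroup Y)
    rw [← h, hPc, ← h2, hcard, ← mul_assoc] at h1
    have h3 := Nat.eq_of_mul_eq_mul_right (Nat.pos_of_ne_zero Subgroup.index_ne_zero_of_finite) h1
    rw [show (2 : ℕ) ^ (m + 2 + 1) = 2 ^ (m + 2) * 2 by ring] at h3
    exact Nat.eq_of_mul_eq_mul_left (by positivity) h3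
  haveI hPn : (P.subgroupOf (S : Subgroup Y)).Normal := Subgroup.normal_of_index_eq_two hrel
  have hconjP : ∀ s ∈ (S : Subgroup Y), ∀ x ∈ P, s * x * s⁻¹ ∈ P := fun s hs x hx =>
    hPn.conj_mem ⟨x, hPS hx⟩ hx ⟨s, hs⟩
  obtain ⟨j, hj⟩ := Subgroup.mem_zpowers_iff.1 (hconjP u huS c (Subgroup.mem_zpowers c))
  have hui : u⁻¹ = u := inv_eq_of_mul_eq_one_right hu
  have hcz : ∀ i : ℤ, c ^ i = 1 ↔ (2 : ℤ) ^ (m + 2) ∣ i := fun i => by
    rw [← orderOf_dvd_iff_zpow_eq_one, hc]; push_cast; rfl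
  have hczz : ∀ i i' : ℤ, c ^ i = c ^ i' ↔ (2 : ℤ) ^ (m + 2) ∣ i - i' := fun i i' => by
    rw [← hcz, zpow_sub, mul_inv_eq_one]
  have huconj : ∀ i : ℤ, u * c ^ i * u⁻¹ = c ^ (j * i) := fun i => by
    rw [← conj_zpow, ← hj, ← zpow_mul]
  have hjj : (2 : ℤ) ^ (m + 2) ∣ j * j - 1 := by
    rw [← hcz, zpow_sub, zpow_one, mul_inv_eq_one, ← huconj, hj, hui]
    calc u * (u * c * u) * u = (u * u) * c * (u * u) := by group
      _ = c := by rw [hu, one_mul, mul_one]
  -- the elements outside the cyclic subgroup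
  have hout : ∀ w ∈ (S : Subgroup Y), w ∉ P → ∃ i : ℤ, w = c ^ i * u := by
    intro w hw hwP
    have h2 := Subgroup.mul_mem_iff_of_index_two hrel (a := ⟨w, hw⟩) (b := ⟨u, huS⟩)
    simp only [Subgroup.mem_subgroupOf, Subgroup.coe_mul] at h2
    obtain ⟨i, hi⟩ := Subgroup.mem_zpowers_iff.1 (h2.2 ⟨fun h => absurd h hwP, fun h => absurd h huc⟩)
    exact ⟨i, by rw [hi, mul_assoc, hu, mul_one]⟩
  have hsq : ∀ i : ℤ, c ^ i * u * (c ^ i * u) = c ^ (i * (1 + j)) := fun i => by
    calc c ^ i * u * (c ^ i * u) = c ^ i * (u * c ^ i * u⁻¹) * (u * u) := by group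
      _ = c ^ (i * (1 + j)) := by rw [huconj, hu, mul_one, ← zpow_add]; congr 1; ring
  have hconju : ∀ k : ℤ, IsConj u (c ^ (k * (1 - j)) * u) := fun k => isConj_iff.2 ⟨c ^ k, by
    calc c ^ k * u * (c ^ k)⁻¹ = c ^ k * (u * c ^ (-k) * u⁻¹) * u := by group
      _ = c ^ (k * (1 - j)) * u := by rw [huconj, ← zpow_add]; congr 2; ring⟩
  have hPinv : ∀ w ∈ P, orderOf w = 2 → w = z₀ := fun w hw hwo => by
    have := eq_of_isCyclic (C := P) (x := ⟨w, hw⟩) (y := ⟨z₀, pow_mem (Subgroup.mem_zpowers c) _⟩)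
      (Subtype.ext (mul_self_of_orderOf hwo))
      (fun e => ne_one_of_orderOf hwo (congrArg Subtype.val e))
      (Subtype.ext (mul_self_of_orderOf hz₀o))
      (fun e => ne_one_of_orderOf hz₀o (congrArg Subtype.val e))
    exact congrArg Subtype.val this
  obtain ⟨w, hwS, hwne, hwconj⟩ := exists_conj_mem hniso S hz₀o
  obtain ⟨g, hg⟩ := isConj_iff.1 hwconj
  have hwo : orderOf w = 2 := by rw [← hg, orderOf_conj, hz₀o]
  have hwP : w ∉ P := fun h => hwne (hPinv w h hwo)
  obtain ⟨i, hi⟩ := hout w hwS hwP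
  have hiw : (2 : ℤ) ^ (m + 2) ∣ i * (1 + j) := by
    rw [← hcz, ← hsq, ← hi, mul_self_of_orderOf hwo]
  have hik : ∀ k : ℤ, ¬ (2 : ℤ) ^ (m + 2) ∣ i - k * (1 - j) := fun k hk => hne (by
    have h := hconju k
    rw [← (hczz _ _).2 hk, ← hi] at h
    exact h.trans hwconj.symm)
  have h24 : (2 : ℤ) * 2 ∣ 2 ^ (m + 2) := ⟨2 ^ m, by ring⟩
  have hjodd : Odd j := by
    by_contra hh
    obtain ⟨a, rfl⟩ := Int.not_odd_iff_even.1 hh
    obtain ⟨b, hb⟩ := (Dvd.intro _ rfl : (2 : ℤ) ∣ 2 * 2).trans (h24.trans hjj)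
    have h3 : (a + a) * (a + a) = 2 * (a * (a + a)) := by ring
    omega
  obtain ⟨a, rfl⟩ := hjodd
  have hinv : (2 : ℤ) ^ (m + 2) ∣ 2 * a + 2 := by
    rcases Int.even_or_odd a with ⟨b, rfl⟩ | ⟨b, rfl⟩
    · -- `j ≡ 1 mod 4`
      have hco : IsCoprime ((2 : ℤ) ^ (m + 1)) (2 * b + 1) :=
        IsCoprime.pow_left ⟨-b, 1, by ring⟩
      have h1 : (2 : ℤ) ^ (m + 1) ∣ i := by
        refine hco.dvd_of_dvd_mul_right ((mul_dvd_mul_iff_left (two_ne_zero' ℤ)).1 ?_)
        convert hiw using 1 <;> first | rfl | ring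
      have h2 : (2 : ℤ) ^ (m + 1) ∣ 2 * (b + b) := by
        refine hco.dvd_of_dvd_mul_right ((mul_dvd_mul_iff_left (two_ne_zero' ℤ)).1 ?_)
        convert hjj using 1 <;> first | rfl | ring
      obtain ⟨e, he⟩ := h2
      rcases Int.even_or_odd e with ⟨f, rfl⟩ | ⟨f, rfl⟩
      · -- `u` centralises `c`, so the two central involutions are conjugate in the normaliser
        exfalso
        have hju : u * c * u⁻¹ = c := by
          have h := huconj 1
          rw [zpow_one, mul_one] at h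
          rw [h, ← zpow_one c, ← zpow_mul, one_mul, hczz]
          exact ⟨f, by rw [show (2 : ℤ) * (b + b) = 2 ^ (m + 1) * (f + f) from he]; ring⟩
        have hcu : Commute u c := mul_inv_eq_iff_eq_mul.1 hju
        have hcent : ∀ k : ℤ, ∀ x ∈ (S : Subgroup Y), Commute (c ^ k) x := by
          intro k x hx
          by_cases hxP : x ∈ P
          · obtain ⟨l, rfl⟩ := Subgroup.mem_zpowers_iff.1 hxP
            exact (Commute.refl c).zpow_zpow k l
          · obtain ⟨l, rfl⟩ := hout x hx hxP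
            exact ((Commute.refl c).zpow_zpow k l).mul_right (hcu.symm.zpow_left k)
        have hucent : ∀ x ∈ (S : Subgroup Y), Commute u x := by
          intro x hx
          by_cases hxP : x ∈ P
          · obtain ⟨l, rfl⟩ := Subgroup.mem_zpowers_iff.1 hxP
            exact hcu.zpow_right l
          · obtain ⟨l, rfl⟩ := hout x hx hxP
            exact (hcu.zpow_right l).mul_right (Commute.refl u)
        have hzc : z₀ ∈ Subgroup.centralizer ((S : Subgroup Y) : Set Y) :=
          Subgroup.mem_centralizer_iff.2 fun x hx => by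
            rw [hz₀, ← zpow_natCast]; exact (hcent _ x hx).symm.eq
        have hwc : g⁻¹⁻¹ * z₀ * g⁻¹ ∈ Subgroup.centralizer ((S : Subgroup Y) : Set Y) := by
          rw [inv_inv, hg, hi]
          exact Subgroup.mem_centralizer_iff.2 fun x hx => ((hcent i x hx).mul_left (hucent x hx)).symm.eq
        obtain ⟨n, hn, hn'⟩ := S.conj_eq_normalizer_conj_of_mem_centralizer z₀ g⁻¹ hzc hwc
        rw [inv_inv, hg] at hn'
        have hns : n⁻¹ * c ^ 2 ^ m * n ∈ (S : Subgroup Y) := by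
          have := (Subgroup.mem_normalizer_iff.1 (inv_mem hn) (c ^ 2 ^ m)).1 (pow_mem hcS _)
          rwa [inv_inv] at this
        refine hwP ?_
        rw [hn', hz₀, show 2 ^ (m + 1) = 2 ^ m * 2 from pow_succ 2 m, pow_mul, pow_two,
          show n⁻¹ * (c ^ 2 ^ m * c ^ 2 ^ m) * n = n⁻¹ * c ^ 2 ^ m * n * (n⁻¹ * c ^ 2 ^ m * n) by
            group]
        generalize n⁻¹ * c ^ 2 ^ m * n = x at hns
        have := Subgroup.mul_mem_iff_of_index_two hrel (a := ⟨x, hns⟩) (b := ⟨x, hns⟩)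
        simp only [Subgroup.mem_subgroupOf, Subgroup.coe_mul] at this
        exact this.2 trivial
      · -- modular: all involutions outside are conjugate to `u`
        obtain ⟨d, rfl⟩ := h1
        rcases Int.even_or_odd d with ⟨d', rfl⟩ | ⟨d', rfl⟩
        · exact (hik 0 ⟨d', by ring⟩).elim
        · refine (hik (-1) ?_).elim
          have : 2 * (b + b) = 2 ^ (m + 1) * (2 * f + 1) := he
          exact ⟨d' - f, by linear_combination (-1 : ℤ) * this⟩
    · -- `j ≡ 3 mod 4`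
      have hco : IsCoprime ((2 : ℤ) ^ (m + 1)) (2 * b + 1) :=
        IsCoprime.pow_left ⟨-b, 1, by ring⟩
      rcases Int.even_or_odd i with ⟨i', hi'⟩ | hio
      · exfalso
        obtain ⟨p, q, hpq⟩ := hco
        exact hik (-(i' * q)) ⟨i' * p, by
          subst hi'; linear_combination (-2 * i') * hpq⟩
      · obtain ⟨i', hi'⟩ := hio
        have h2i : IsCoprime ((2 : ℤ) ^ (m + 2)) i :=
          IsCoprime.pow_left ⟨-i', 1, by rw [hi']; ring⟩
        convert h2i.dvd_of_dvd_mul_left hiw using 1 <;> first | rfl | ring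
  have hinvj : u * c * u⁻¹ = c⁻¹ := by
    rw [← hj, ← zpow_neg_one, hczz]
    convert hinv using 1 <;> first | rfl | ring
  refine ⟨hinvj, fun w' hw'o => ?_⟩
  obtain ⟨T, hT⟩ := (CfsgLib.TwoGroupTricks.isPGroup_zpowers (p := 2)
    (x := w') ⟨1, by rw [hw'o, pow_one]⟩).exists_le_sylow
  obtain ⟨h, hh⟩ := MulAction.exists_smul_eq Y T S
  have hmem : h * w' * h⁻¹ ∈ (S : Subgroup Y) := by
    rw [← hh, Sylow.coe_subgroup_smul]
    exact Subgroup.smul_mem_pointwise_smul _ (MulAut.conj h) _ (hT (Subgroup.mem_zpowers _))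
  have hback : IsConj (h * w' * h⁻¹) w' := (isConj_iff.2 ⟨h, rfl⟩ : IsConj w' _).symm
  by_cases hP' : h * w' * h⁻¹ ∈ P
  · rw [hPinv _ hP' (by rw [orderOf_conj, hw'o])] at hback
    exact Or.inr hback
  obtain ⟨l, hl⟩ := hout _ hmem hP'
  rw [hl] at hback
  obtain ⟨k, hk⟩ := hinv
  have hmove : ∀ k₀ v : ℤ, IsConj (c ^ v * u) (c ^ (v + 2 * k₀) * u) := fun k₀ v =>
    isConj_iff.2 ⟨c ^ k₀, by
      calc c ^ k₀ * (c ^ v * u) * (c ^ k₀)⁻¹ = c ^ (k₀ + v) * (u * c ^ (-k₀) * u⁻¹) * u := by group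
        _ = c ^ (v + 2 * k₀) * u := by
          rw [huconj, ← zpow_add]
          congr 1
          rw [hczz]
          exact ⟨-k₀ * k, by linear_combination (-k₀) * hk⟩⟩
  by_cases hle : Even l
  · obtain ⟨l', rfl⟩ := hle
    left
    have h := hmove l' 0
    rw [zpow_zero, one_mul, show (0 : ℤ) + 2 * l' = l' + l' by ring] at h
    exact h.trans hback
  · right
    have hiodd : Odd i := by
      by_contra hh
      obtain ⟨i', rfl⟩ := Int.not_odd_iff_even.1 hh
      have h := hmove i' 0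
      rw [zpow_zero, one_mul, show (0 : ℤ) + 2 * i' = i' + i' by ring, ← hi] at h
      exact hne (h.trans hwconj.symm)
    obtain ⟨i', rfl⟩ := hiodd
    obtain ⟨l', rfl⟩ := Int.not_even_iff_odd.1 hle
    have h := hmove (l' - i') (2 * i' + 1)
    rw [show 2 * i' + 1 + 2 * (l' - i') = 2 * l' + 1 by ring, ← hi] at h
    exact hwconj.trans (h.trans hback)

/-- A Sylow 2-subgroup generated by a cyclic subgroup of index two and an inverting involution. -/
theorem hasDihedralSylow_of_inverts (S : Sylow 2 Y) {c u : Y} (hcS : c ∈ (S : Subgroup Y))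
    (huS : u ∈ (S : Subgroup Y)) (hu : u * u = 1) (huc : u ∉ Subgroup.zpowers c) {r : ℕ}
    (hr : 1 ≤ r) (hc : orderOf c = 2 ^ r) (hcard : Nat.card (S : Subgroup Y) = 2 ^ (r + 1))
    (hinv : u * c * u⁻¹ = c⁻¹) : CfsgLib.GW.HasDihedralSylow Y := by
  have hui : u⁻¹ = u := inv_eq_of_mul_eq_one_right hu
  have hb : u * c * (u * c) = 1 := by
    rw [hui] at hinv
    rw [← mul_assoc, hinv, inv_mul_cancel]
  have hab : u * (u * c) = c := by rw [← mul_assoc, hu, one_mul]
  haveI : NeZero (2 ^ r) := ⟨by positivity⟩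
  obtain ⟨ψ, hψ, hψr⟩ := CfsgLib.Twisted.exists_dihedral_hom (k := 2 ^ r) u (u * c) hu hb
    (by rw [hab, ← hc, pow_orderOf_eq_one])
    (fun i hi => by
      rw [hab, ← orderOf_dvd_iff_pow_eq_one, hc] at hi
      exact ZMod.val_eq_zero i |>.1 (Nat.eq_zero_of_dvd_of_lt hi (ZMod.val_lt i)))
    (fun i hi => huc (by
      rw [hab] at hi
      rw [eq_inv_of_mul_eq_one_left hi]
      exact inv_mem (pow_mem (Subgroup.mem_zpowers c) _)))
  have hle : ψ.range ≤ S := by
    rw [hψr, Subgroup.closure_le]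
    rintro x (rfl | rfl)
    exacts [huS, mul_mem huS hcS]
  have heq : ψ.range = (S : Subgroup Y) := Subgroup.eq_of_le_of_card_ge hle (by
    rw [← Nat.card_congr (MonoidHom.ofInjective hψ).toEquiv, DihedralGroup.nat_card, hcard,
      pow_succ']
    )
  refine ⟨S, 2 ^ r, ?_, ⟨((MonoidHom.ofInjective hψ).trans (MulEquiv.subgroupCongr heq)).symm⟩⟩
  exact Nat.le_self_pow (by omega) 2

end CfsgLib.Derangements.CyclicTimesZ
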