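import Cfsg.Agent.Lib.Derangements.CyclicTimesZ.Linear
import Cfsg.Agent.Lib.Derangements.CyclicTimesZ.Basic
import Cfsg.Agent.Lib.GWApps.Structure
import Cfsg.Agent.Lib.GW.AutL
import Cfsg.Agent.Lib.GW.AutLPSL
import Cfsg.Agent.Lib.BaseThree.Triples

/-!
# Insoluble groups with dihedral Sylow 2-subgroups factorized by a cyclic group and a Z-group
-/

set_option autoImplicit false
set_option linter.style.haveILetI false

open Subgroup
open scoped commutatorElement

namespace CfsgLib.Derangements.CyclicTimesZ

open CfsgLib.ReflectionsSpinor.PSL CfsgLib.GW CfsgLib.GW.PGLTwo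

universe u

/-- Isomorphic to `PGL₂(p)` for a prime `p > 3`. -/
def IsPGLTwo (G : Type u) [Group G] : Prop :=
  ∃ (F : Type) (_ : Field F) (_ : Fintype F), (Fintype.card F).Prime ∧ 3 < Fintype.card F ∧
    Nonempty (G ≃* (toAutHom (n := 2) (F := F)).range)

variable {G : Type u} [Group G] [Finite G]

omit [Finite G] in
theorem isSolvable_psl_three {F : Type} [Field F] [Fintype F] (h3 : Fintype.card F = 3) :
    Group.IsSolvable (Matrix.ProjectiveSpecialLinearGroup (Fin 2) F) := by
  haveI := CfsgLib.BaseThree.isSolvable_perm_fin_four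
  obtain ⟨e⟩ := nonempty_psl_equiv_alt4 (F := F) h3
  exact solvable_of_solvable_injective
    (f := (alternatingGroup (Fin 4)).subtype.comp e.toMonoidHom)
    (fun x y h => e.injective (Subtype.ext h))

theorem almost_simple_case (hGW : CfsgLib.GWApps.GWHyp.{u}) (hns : ¬ Group.IsSolvable G)
    (hO : Cfsg.oddCore G = ⊥) (hd : HasDihedralSylow G) (A B : Subgroup G) [IsCyclic A] [IsZGroup B]
    (hev : Even (Nat.card A)) (hidx : B.index = Nat.card A) (hS : ∃ S : Subgroup G, S.index = 2) :
    IsPGLTwo G := by
  classical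
  haveI : Fact (Nat.Prime 2) := ⟨Nat.prime_two⟩
  obtain ⟨N, hNn, hCN, hN⟩ : ∃ N : Subgroup G, N.Normal ∧
      Subgroup.centralizer (N : Set G) = ⊥ ∧ IsGWTop N := by
    refine (CfsgLib.GWApps.structure_of_gw hGW hO hd).resolve_left fun hp => hns ?_
    haveI := hp.isNilpotent
    infer_instance
  haveI := hNn
  obtain ⟨S, hS⟩ := hS
  haveI : S.Normal := Subgroup.normal_of_index_eq_two hS
  have hnsimple : ¬ IsSimpleGroup G := fun hsimp => by
    rcases hsimp.eq_bot_or_eq_top_of_normal S inferInstance with e | e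
    · rw [e, Subgroup.index_bot] at hS
      refine hns ?_
      haveI := (IsPGroup.of_card (p := 2) (n := 1) (by rw [hS, pow_one]) : IsPGroup 2 G).isNilpotent
      infer_instance
    · rw [e, Subgroup.index_top] at hS
      omega
  rcases GW.AutL.models N hCN hN hd with ⟨F, iF, iT, hodd, ⟨eN⟩, h2, f, hf, hfN, hfI, hfield⟩ |
    ⟨rfl, ⟨e7⟩, -⟩
  swap
  · exfalso
    haveI : IsSimpleGroup (alternatingGroup (Fin 7)) := alternatingGroup.isSimpleGroup (by simp)
    let e := Subgroup.topEquiv.symm.trans e7
    haveI : Nontrivial G := e.toEquiv.nontrivial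
    exact hnsimple (IsSimpleGroup.isSimpleGroup_of_surjective e.symm.toMonoidHom e.symm.surjective)
  set q := Fintype.card F with hq
  haveI : CharP F (ringChar F) := ringChar.charP F
  obtain ⟨⟨e, he⟩, hp, hqe⟩ := FiniteField.card F (ringChar F)
  set p := ringChar F with hpdef
  haveI := Fact.mk hp
  have hqe' : q = p ^ e := hqe
  have hp2 : p ≠ 2 := fun h => by
    rw [hqe', h, Nat.odd_iff] at hodd
    have : 2 ∣ 2 ^ e := dvd_pow_self 2 (by omega)
    omega
  -- the field part is trivial once the field is prime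
  have hrangeA : e = 1 → ∀ x : G, f x ∈ (toAutHom (n := 2) (F := F)).range := fun he1 x =>
    fieldPart_eq_one_iff.1 (ringAut_eq_one_of_prime (by rw [← hq, hqe', he1, pow_one]; exact hp) _)
  have hq3 : q ≠ 3 := by
    intro h3
    haveI : Group.IsSolvable (Matrix.ProjectiveSpecialLinearGroup (Fin 2) F) := isSolvable_psl_three h3
    haveI : Group.IsSolvable N := solvable_of_solvable_injective (f := eN.toMonoidHom) eN.injective
    have hcomm : commutator G ≤ N := by
      rw [_root_.commutator_def, Subgroup.commutator_le]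
      intro x _ y _
      have hmem : f ⁅x, y⁆ ∈ innG F := by
        have hfp : ∀ α : MulAut (Matrix.ProjectiveSpecialLinearGroup (Fin 2) F), fieldPart α = 1 :=
          fun α => ringAut_eq_one_of_prime (by rw [← hq, h3]; exact Nat.prime_three) _
        refine mem_inn_iff.2 ⟨hfp _, ?_⟩
        rw [map_commutatorElement, commutatorElement_def, sq_mul, sq_conj, sq_inv]
      obtain ⟨n, hn, hnx⟩ := hfI _ hmem
      rwa [← hf hnx]
    haveI : Group.IsSolvable (commutator G) :=
      solvable_of_solvable_injective (Subgroup.inclusion_injective hcomm)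
    haveI : Group.IsSolvable (G ⧸ commutator G) := isSolvable_of_comm fun a b => by
      exact (mul_comm (G := Abelianization G) a b)
    exact hns (solvable_of_ker_le_range (commutator G).subtype (QuotientGroup.mk' (commutator G))
      (by rw [QuotientGroup.ker_mk', Subgroup.range_subtype]))
  have hq4 : 4 ≤ q := by
    have h1 : 1 < q := Fintype.one_lt_card
    rw [Nat.odd_iff] at hodd
    omega
  -- the field has prime order
  have he1 : e = 1 := by
    by_contra hne
    have he2 : 2 ≤ e := by omega
    -- the order of `N`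
    have hcardN : p ^ e ∣ Nat.card N := by
      rw [Nat.card_congr eN.toEquiv]
      have h := CfsgLib.ClassicalLinear.card_PSL_two_of_odd (F := F) hq.symm hodd
      have hd2 : p ^ e ∣ 2 * Nat.card (Matrix.ProjectiveSpecialLinearGroup (Fin 2) F) := by
        rw [h, hqe']; exact Dvd.intro _ rfl
      exact (Nat.Coprime.pow_left _ ((Nat.coprime_primes hp Nat.prime_two).2 hp2)).dvd_of_dvd_mul_left hd2
    -- `p`-subgroups of `N ⊓ B` have order at most `p`
    have hexp : ∀ x ∈ N, ∀ k : ℕ, x ^ p ^ k = 1 → x ^ p = 1 := by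
      intro x hx k hk
      obtain ⟨g, hg⟩ := fieldPart_eq_one_iff.1 (mem_inn_iff.1 (hfN x hx)).1
      have hgp : toAutHom g ^ p ^ k = (1 : MulAut (Matrix.ProjectiveSpecialLinearGroup (Fin 2) F)) := by
        rw [hg, ← map_pow, hk, map_one]
      have := pow_char_eq_one hgp
      rw [hg, ← map_pow] at this
      exact hf (this.trans (map_one f).symm)
    have hNB : (Nat.card (N ⊓ B : Subgroup G)).factorization p ≤ 1 := by
      obtain ⟨P⟩ : Nonempty (Sylow p (N ⊓ B : Subgroup G)) := inferInstance
      haveI : IsZGroup (N ⊓ B : Subgroup G) :=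
        IsZGroup.of_injective (Subgroup.inclusion_injective (inf_le_right : N ⊓ B ≤ B))
      haveI : IsCyclic (P : Subgroup (N ⊓ B : Subgroup G)) := IsZGroup.isZGroup p hp P
      obtain ⟨x, hx⟩ := IsCyclic.exists_generator (α := (P : Subgroup (N ⊓ B : Subgroup G)))
      have hord := orderOf_eq_card_of_forall_mem_zpowers hx
      rw [P.card_eq_multiplicity] at hord
      have hxp : x ^ p = 1 := by
        have h1 : x ^ p ^ (Nat.card (N ⊓ B : Subgroup G)).factorization p = 1 := by
          rw [← hord, pow_orderOf_eq_one]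
        have h1' := congrArg (fun y : (P : Subgroup (N ⊓ B : Subgroup G)) =>
          ((y : (N ⊓ B : Subgroup G)) : G)) h1
        simp only [SubmonoidClass.coe_pow, OneMemClass.coe_one] at h1'
        exact Subtype.ext (Subtype.ext (by
          simpa using hexp _ (x : (N ⊓ B : Subgroup G)).2.1 _ h1'))
      have h2' := orderOf_dvd_of_pow_eq_one hxp
      rw [hord] at h2'
      exact (Nat.pow_dvd_pow_iff_le_right hp.one_lt).1 (h2'.trans (pow_one p).symm.dvd)
    have hpA : p ^ (e - 1) ∣ Nat.card A := by
      set r := N.relIndex B with hr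
      have hB : Nat.card (N ⊓ B : Subgroup G) * r = Nat.card B := by
        rw [hr, ← Subgroup.inf_relIndex_right N B, ← Subgroup.relIndex_bot_left, ← Subgroup.relIndex_bot_left]
        exact Subgroup.relIndex_mul_relIndex _ _ _ bot_le inf_le_right
      have hNB : Nat.card N * r = Nat.card (N ⊔ B : Subgroup G) := by
        rw [hr, ← Subgroup.relIndex_sup_left (H := B) (K := N), ← Subgroup.relIndex_bot_left,
          ← Subgroup.relIndex_bot_left]
        exact Subgroup.relIndex_mul_relIndex _ _ _ bot_le le_sup_left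
      have hkey : r * (Nat.card N * (N ⊔ B).index) = r * (Nat.card (N ⊓ B : Subgroup G) * Nat.card A) := by
        calc r * (Nat.card N * (N ⊔ B).index) = Nat.card N * r * (N ⊔ B).index := by ring
          _ = Nat.card G := by rw [hNB, Subgroup.card_mul_index]
          _ = Nat.card B * Nat.card A := by rw [← hidx, Subgroup.card_mul_index]
          _ = _ := by rw [← hB]; ring
      have hr0 : 0 < r := Nat.pos_of_ne_zero fun h0 => by
        rw [h0, mul_zero] at hB
        exact Nat.card_pos.ne' hB.symm
      have h1 : p ^ e ∣ Nat.card (N ⊓ B : Subgroup G) * Nat.card A :=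
        hcardN.trans (Dvd.intro _ (Nat.eq_of_mul_eq_mul_left hr0 hkey))
      rw [hp.pow_dvd_iff_le_factorization (Nat.mul_ne_zero Nat.card_pos.ne' Nat.card_pos.ne'),
        Nat.factorization_mul Nat.card_pos.ne' Nat.card_pos.ne', Finsupp.add_apply] at h1
      rw [hp.pow_dvd_iff_le_factorization Nat.card_pos.ne']
      omega
    obtain ⟨a, ha⟩ := IsCyclic.exists_generator (α := A)
    have hao : orderOf (a : G) = Nat.card A := by
      rw [Subgroup.orderOf_coe, orderOf_eq_card_of_forall_mem_zpowers ha]
    set y := (a : G) ^ (Nat.card A / p ^ (e - 1)) with hy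
    set t := (a : G) ^ (Nat.card A / 2) with ht
    have hyo : orderOf y = p ^ (e - 1) := by
      rw [hy, orderOf_pow, hao, Nat.gcd_eq_right (Nat.div_dvd_of_dvd hpA),
        Nat.div_div_self hpA Nat.card_pos.ne']
    have hto : orderOf t = 2 := by
      rw [ht, orderOf_pow, hao, Nat.gcd_eq_right (Nat.div_dvd_of_dvd hev.two_dvd),
        Nat.div_div_self hev.two_dvd Nat.card_pos.ne']
    set σ := fieldPart (f y) with hσ
    have hσe : orderOf σ ≤ e :=
      Nat.le_of_dvd (by omega) (card_ringAut (F := F) hqe' ▸ orderOf_dvd_natCard σ)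
    have hbig : e < p ^ (e - 1) := by
      obtain ⟨k, hk⟩ : ∃ k, e = k + 2 := ⟨e - 2, by omega⟩
      rw [hk]
      have h3 : 3 ≤ p := by
        have := hp.two_le
        omega
      have h4 : k + 2 < 3 ^ (k + 1) := by
        clear hk
        induction k with
        | zero => norm_num
        | succ k ih => rw [pow_succ]; omega
      exact lt_of_lt_of_le h4 (by rw [show k + 2 - 1 = k + 1 by omega]; exact Nat.pow_le_pow_left h3 _)
    have hy'A : fieldPart (f (y ^ orderOf σ)) = 1 := by
      rw [map_pow, map_pow, ← hσ, pow_orderOf_eq_one]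
    obtain ⟨g, hg⟩ := fieldPart_eq_one_iff.1 hy'A
    have hft : fieldPart (f t) = 1 := GW.AutL.PSL.fieldPart_sq_one (Q := f.range) hfield ⟨t, rfl⟩ (by
      rw [← map_mul, ← map_mul, mul_self_of_orderOf hto, map_one, map_one])
    obtain ⟨h, hh⟩ := fieldPart_eq_one_iff.1 hft
    have hy1 : y ^ orderOf σ = 1 := hf (by
      rw [map_one, ← hg]
      refine no_commuting h2 (h := h) (p := p) ?_ ?_ (k := e - 1) ?_ ?_
      · rw [hh, ← map_mul, mul_self_of_orderOf hto, map_one]
      · rw [hh, ne_eq, map_eq_one_iff _ hf]; exact ne_one_of_orderOf hto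
      · rw [hg, ← map_pow, ← pow_mul, mul_comm, pow_mul, ← hyo, pow_orderOf_eq_one, one_pow, map_one]
      · rw [hh, hg, ← map_mul, ← map_mul, hy, ht]
        exact congrArg f ((((Commute.refl (a : G)).pow_pow _ _).pow_right _).eq))
    have := Nat.le_of_dvd (orderOf_pos σ) (orderOf_dvd_of_pow_eq_one hy1)
    omega
  -- the image is all of `PGL₂`
  have hIle : innG F ≤ f.range := fun α hα => by
    obtain ⟨n, -, hn⟩ := hfI α hα
    exact ⟨n, hn⟩
  obtain ⟨x, hx⟩ : ∃ x : G, f x ∉ innG F := by
    by_contra hall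
    push Not at hall
    have hNtop : N = ⊤ := by
      rw [Subgroup.eq_top_iff']
      intro x
      obtain ⟨n, hn, hnx⟩ := hfI _ (hall x)
      rwa [← hf hnx]
    haveI := CfsgLib.ClassicalLinear.isSimpleGroup_psl_fin (F := F) (n := 2) le_rfl
      (fun _ => by rw [Nat.card_eq_fintype_card]; exact hq4)
    let e' : G ≃* Matrix.ProjectiveSpecialLinearGroup (Fin 2) F :=
      (Subgroup.topEquiv.symm.trans (MulEquiv.subgroupCongr hNtop.symm)).trans eN
    haveI : Nontrivial G := e'.toEquiv.nontrivial
    exact hnsimple (IsSimpleGroup.isSimpleGroup_of_surjective e'.symm.toMonoidHom e'.symm.surjective)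
  have heq : f.range = (toAutHom (n := 2) (F := F)).range := le_antisymm
    (by rintro _ ⟨z, rfl⟩; exact hrangeA he1 z)
    (range_le_of_not_inn f.range hIle ⟨x, rfl⟩ (hrangeA he1 x) hx)
  exact ⟨F, iF, iT, by rw [← hq, hqe', he1, pow_one]; exact hp, by rw [← hq]; omega,
    ⟨(MonoidHom.ofInjective hf).trans (MulEquiv.subgroupCongr heq)⟩⟩

end CfsgLib.Derangements.CyclicTimesZ
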