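import Cfsg.Agent.Lib.Derangements.CyclicTimesZ.Main

/-!
# Insoluble products of a cyclic group and a Z-group: the induction
-/

set_option autoImplicit false
set_option linter.style.haveILetI false

open Subgroup MulAction

namespace CfsgLib.Derangements.CyclicTimesZ

open CfsgLib.ReflectionsSpinor.PSL CfsgLib.GW CfsgLib.GW.PGLTwo

universe u

theorem isSolvable_of_normalPComplement {G : Type*} [Group G] [Finite G]
    (h : Cfsg.HasNormalPComplement 2 G) : Group.IsSolvable G := by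
  haveI : Fact (Nat.Prime 2) := ⟨Nat.prime_two⟩
  obtain ⟨P, N, hN, hc⟩ := h
  haveI := hN
  haveI : Group.IsSolvable N := Cfsg.Agent.S0205.result
    (Nat.not_even_iff_odd.1 fun he => P.not_dvd_index (by
      rw [hc.index_eq_card]; exact even_iff_two_dvd.1 he))
  haveI : Group.IsSolvable (G ⧸ N) := by
    haveI := P.isPGroup'.isNilpotent
    exact Group.isSolvable_of_surjective (f := hc.symm.QuotientMulEquiv.symm.toMonoidHom)
      hc.symm.QuotientMulEquiv.symm.surjective
  exact Group.isSolvable_of_ker_le_range N.subtype (QuotientGroup.mk' N)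
    (by rw [QuotientGroup.ker_mk', Subgroup.range_subtype])

theorem ne_one_two_part {H : Type*} [Group H] {x : H} {v k : ℕ} (hx : x ^ 2 ^ v = 1) (hx1 : x ≠ 1)
    (hk : x ^ k = 1) : Even k := by
  by_contra hodd
  rw [Nat.not_even_iff_odd] at hodd
  refine hx1 (orderOf_eq_one_iff.1 (Nat.eq_one_of_dvd_coprimes (Nat.Coprime.pow_left v (Nat.coprime_two_left.2 hodd))
    (orderOf_dvd_of_pow_eq_one hx) (orderOf_dvd_of_pow_eq_one hk)))

variable {G : Type u} [Group G] [Finite G]

/-- A Sylow 2-subgroup factorized by 2-parts of the factors. -/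
theorem exists_sylow_factor (A B : Subgroup G) [IsCyclic A] [IsZGroup B]
    (hAB : ∀ g : G, ∃ a ∈ A, ∃ b ∈ B, g = a * b) :
    ∃ (P : Sylow 2 G) (α β : G), α ∈ A ∧ β ∈ B ∧ α ∈ (P : Subgroup G) ∧ β ∈ (P : Subgroup G) ∧
      orderOf α = 2 ^ (Nat.card A).factorization 2 ∧ orderOf β = 2 ^ (Nat.card B).factorization 2 ∧
      ∀ p ∈ (P : Subgroup G), ∃ i j : ℕ, p = α ^ i * β ^ j := by
  classical
  haveI : Fact (Nat.Prime 2) := ⟨Nat.prime_two⟩
  obtain ⟨a₀, ha₀⟩ := IsCyclic.exists_generator (α := A)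
  set α := (a₀ : G) ^ (Nat.card A / 2 ^ (Nat.card A).factorization 2) with hαdef
  have hαA : α ∈ A := pow_mem a₀.2 _
  have hα : orderOf α = 2 ^ (Nat.card A).factorization 2 := by
    have hd : 2 ^ (Nat.card A).factorization 2 ∣ Nat.card A := Nat.ordProj_dvd _ _
    rw [hαdef, orderOf_pow, Subgroup.orderOf_coe, orderOf_eq_card_of_forall_mem_zpowers ha₀,
      Nat.gcd_eq_right (Nat.div_dvd_of_dvd hd), Nat.div_div_self hd Nat.card_pos.ne']
  obtain ⟨QB⟩ : Nonempty (Sylow 2 B) := inferInstance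
  haveI : IsCyclic (QB : Subgroup B) := IsZGroup.isZGroup 2 Nat.prime_two QB
  obtain ⟨β₀, hβ₀⟩ := IsCyclic.exists_generator (α := (QB : Subgroup B))
  have hβ₀o : orderOf ((β₀ : B) : G) = 2 ^ (Nat.card B).factorization 2 := by
    rw [Subgroup.orderOf_coe, Subgroup.orderOf_coe, orderOf_eq_card_of_forall_mem_zpowers hβ₀,
      QB.card_eq_multiplicity]
  obtain ⟨P1, hP1⟩ := (CfsgLib.TwoGroupTricks.isPGroup_zpowers (p := 2) (x := ((β₀ : B) : G))
    ⟨_, hβ₀o⟩).exists_le_sylow
  obtain ⟨P2, hP2⟩ := (CfsgLib.TwoGroupTricks.isPGroup_zpowers (p := 2) (x := α) ⟨_, hα⟩).exists_le_sylow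
  obtain ⟨g, hg⟩ := MulAction.exists_smul_eq G P1 P2
  obtain ⟨a, ha, b, hb, rfl⟩ := hAB g
  set P := b • P1 with hP
  set β := b * ((β₀ : B) : G) * b⁻¹ with hβdef
  have hβB : β ∈ B := mul_mem (mul_mem hb (β₀ : B).2) (inv_mem hb)
  have hβ : orderOf β = 2 ^ (Nat.card B).factorization 2 := by rw [hβdef, orderOf_conj, hβ₀o]
  have hmemP : ∀ x ∈ (P1 : Subgroup G), b * x * b⁻¹ ∈ (P : Subgroup G) := fun x hx => by
    rw [hP, Sylow.coe_subgroup_smul]
    exact Subgroup.smul_mem_pointwise_smul _ (MulAut.conj b) _ hx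
  have hβP : β ∈ (P : Subgroup G) := hmemP _ (hP1 (Subgroup.mem_zpowers _))
  have hαP : α ∈ (P : Subgroup G) := by
    have hP2' : P = a⁻¹ • P2 := by rw [hP, ← hg, mul_smul, inv_smul_smul]
    rw [hP2', Sylow.coe_subgroup_smul]
    have h2 := Subgroup.smul_mem_pointwise_smul _ (MulAut.conj a⁻¹) _ (hP2 (Subgroup.mem_zpowers α))
    have heq : MulAut.conj a⁻¹ • α = α := by
      haveI : IsMulCommutative A := IsCyclic.isMulCommutative
      have hc : a⁻¹ * α = α * a⁻¹ :=
        congrArg Subtype.val (mul_comm' (⟨a⁻¹, inv_mem ha⟩ : A) ⟨α, hαA⟩)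
      show a⁻¹ * α * a⁻¹⁻¹ = α
      rw [hc, mul_inv_cancel_right]
    rwa [heq] at h2
  refine ⟨P, α, β, hαA, hβB, hαP, hβP, hα, hβ, fun p hp => ?_⟩
  -- counting cosets of `⟨β⟩`
  set Z1 := Subgroup.zpowers α with hZ1
  set Z2 := Subgroup.zpowers β with hZ2
  have hZ1P : Z1 ≤ P := Subgroup.zpowers_le.2 hαP
  have hZ2P : Z2 ≤ P := Subgroup.zpowers_le.2 hβP
  have hcardG : Nat.card G * Nat.card (A ⊓ B : Subgroup G) = Nat.card A * Nat.card B := by
    have hsurj : Function.Surjective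
        (fun x : A => (QuotientGroup.mk (x : G) : G ⧸ B)) := fun q => by
      obtain ⟨g, rfl⟩ := QuotientGroup.mk_surjective q
      obtain ⟨a', ha', b', hb', rfl⟩ := hAB g
      exact ⟨⟨a', ha'⟩, QuotientGroup.eq.2 (by simpa using hb')⟩
    have hrel : B.relIndex A = B.index := by
      refine le_antisymm ?_ ?_
      · rw [← Subgroup.relIndex_top_right]
        exact Subgroup.relIndex_le_of_le_right le_top (Subgroup.relIndex_top_right B ▸ Subgroup.index_ne_zero_of_finite)
      · rw [Subgroup.index_eq_card, Subgroup.relIndex, Subgroup.index_eq_card]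
        refine Nat.card_le_card_of_surjective
          (fun q : A ⧸ B.subgroupOf A => Quotient.liftOn' q (fun x : A => (QuotientGroup.mk (x : G) : G ⧸ B))
            fun x y hxy => QuotientGroup.eq.2 (show ((x : G))⁻¹ * y ∈ B by exact (QuotientGroup.leftRel_apply.1 hxy :))) fun q => ?_
        obtain ⟨x, hx⟩ := hsurj q
        exact ⟨QuotientGroup.mk x, hx⟩
    have h1 : Nat.card (A ⊓ B : Subgroup G) * B.relIndex A = Nat.card A := by
      rw [← Subgroup.inf_relIndex_left A B, ← Subgroup.relIndex_bot_left, ← Subgroup.relIndex_bot_left]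
      exact Subgroup.relIndex_mul_relIndex _ _ _ bot_le inf_le_left
    rw [← Subgroup.card_mul_index B, ← hrel, mul_assoc, mul_comm (B.relIndex A), h1, mul_comm]
  have hsurj : Function.Surjective (Subgroup.quotientSubgroupOfEmbeddingOfLE Z2 hZ1P) := by
    refine (Function.Injective.bijective_of_nat_card_le
      (Subgroup.quotientSubgroupOfEmbeddingOfLE Z2 hZ1P).injective ?_).2
    rw [← Subgroup.index_eq_card, ← Subgroup.index_eq_card]
    show Z2.relIndex P ≤ Z2.relIndex Z1
    have h1 : Nat.card (Z1 ⊓ Z2 : Subgroup G) * Z2.relIndex Z1 = Nat.card Z1 := by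
      rw [← Subgroup.inf_relIndex_left Z1 Z2, ← Subgroup.relIndex_bot_left, ← Subgroup.relIndex_bot_left]
      exact Subgroup.relIndex_mul_relIndex _ _ _ bot_le inf_le_left
    have h2 : Nat.card Z2 * Z2.relIndex P = Nat.card (P : Subgroup G) := by
      rw [← Subgroup.relIndex_bot_left, ← Subgroup.relIndex_bot_left]
      exact Subgroup.relIndex_mul_relIndex _ _ _ bot_le hZ2P
    rw [hZ1, Nat.card_zpowers, hα] at h1
    rw [hZ2, Nat.card_zpowers, hβ, P.card_eq_multiplicity] at h2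
    have hI : Nat.card (Z1 ⊓ Z2 : Subgroup G) ≤ 2 ^ (Nat.card (A ⊓ B : Subgroup G)).factorization 2 := by
      obtain ⟨k, hk⟩ := IsPGroup.iff_card.1 (P.isPGroup'.to_le ((inf_le_left : Z1 ⊓ Z2 ≤ Z1).trans hZ1P))
      rw [hk]
      refine Nat.pow_le_pow_right two_pos ?_
      rw [← Nat.prime_two.pow_dvd_iff_le_factorization Nat.card_pos.ne', ← hk]
      exact Subgroup.card_dvd_of_le (inf_le_inf (Subgroup.zpowers_le.2 hαA) (Subgroup.zpowers_le.2 hβB))
    have hv := congrArg (fun n => n.factorization 2) hcardG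
    simp only [Nat.factorization_mul Nat.card_pos.ne' Nat.card_pos.ne', Finsupp.add_apply] at hv
    set i := (Nat.card (A ⊓ B : Subgroup G)).factorization 2
    have h3 : 2 ^ i * 2 ^ (Nat.card B).factorization 2 * Z2.relIndex P =
        2 ^ (Nat.card B).factorization 2 * (Nat.card (Z1 ⊓ Z2 : Subgroup G) * Z2.relIndex Z1) := by
      rw [hZ1, hZ2] at *
      rw [h1, mul_assoc, h2, ← pow_add, ← pow_add, ← add_comm (Nat.card A |>.factorization 2), ← hv,
        add_comm]
    refine Nat.le_of_mul_le_mul_left ?_ (by positivity : 0 < 2 ^ i * 2 ^ (Nat.card B).factorization 2)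
    rw [h3]
    calc 2 ^ (Nat.card B).factorization 2 * (Nat.card (Z1 ⊓ Z2 : Subgroup G) * Z2.relIndex Z1)
        ≤ 2 ^ (Nat.card B).factorization 2 * (2 ^ i * Z2.relIndex Z1) :=
          Nat.mul_le_mul_left _ (Nat.mul_le_mul_right _ hI)
      _ = 2 ^ i * 2 ^ (Nat.card B).factorization 2 * Z2.relIndex Z1 := by ring
  obtain ⟨q, hq⟩ := hsurj (QuotientGroup.mk (⟨p, hp⟩ : (P : Subgroup G)))
  obtain ⟨z, rfl⟩ := QuotientGroup.mk_surjective q
  rw [Subgroup.quotientSubgroupOfEmbeddingOfLE_apply_mk, QuotientGroup.eq] at hq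
  have hmem : ((z : G))⁻¹ * p ∈ Z2 := hq
  obtain ⟨i, -, hi⟩ := Finset.mem_image.1
    ((isOfFinOrder_of_finite α).mem_zpowers_iff_mem_range_orderOf.1 z.2)
  obtain ⟨j, -, hj⟩ := Finset.mem_image.1
    ((isOfFinOrder_of_finite β).mem_zpowers_iff_mem_range_orderOf.1 hmem)
  exact ⟨i, j, by rw [hi, hj, mul_inv_cancel_left]⟩

theorem main_aux (hGW : CfsgLib.GWApps.GWHyp.{u}) (n : ℕ) : ∀ (G : Type u) [Group G] [Finite G]
    (A B : Subgroup G), Nat.card G = n → ¬ Group.IsSolvable G → IsCyclic A → IsZGroup B →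
    (∀ g : G, ∃ a ∈ A, ∃ b ∈ B, g = a * b) → RadFree G → IsPGLTwo G := by
  induction n using Nat.strong_induction_on with
  | _ n ih =>
  intro G _ _ A B hn hns hA hB hAB hrad
  classical
  haveI : Fact (Nat.Prime 2) := ⟨Nat.prime_two⟩
  haveI := hA
  haveI := hB
  obtain ⟨M, hM, hBM⟩ : ∃ M : Subgroup G, IsCoatom M ∧ B ≤ M := by
    refine (eq_top_or_exists_le_coatom B).resolve_left fun e => hns ?_
    subst e
    haveI : IsZGroup G := IsZGroup.of_surjective (f := (Subgroup.topEquiv (G := G)).toMonoidHom)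
      Subgroup.topEquiv.surjective
    infer_instance
  have hMdec : ∀ m ∈ M, ∃ a ∈ A, a ∈ M ∧ ∃ b ∈ B, m = a * b := by
    intro m hm
    obtain ⟨a, ha, b, hb, rfl⟩ := hAB m
    exact ⟨a, ha, by simpa using mul_mem hm (inv_mem (hBM hb)), b, hb, rfl⟩
  -- the action on the cosets of `M`
  set φ := MulAction.toPermHom G (G ⧸ M) with hφ
  haveI : Nontrivial (G ⧸ M) := QuotientGroup.nontrivial_iff.2 hM.1
  set o : G ⧸ M := QuotientGroup.mk 1 with ho
  have hstab : stabilizer G o = M := MulAction.stabilizer_quotient M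
  haveI hprim : IsPreprimitive G (G ⧸ M) := by
    rw [← MulAction.isCoatom_stabilizer_iff_preprimitive (G := G) (a := o), hstab]; exact hM
  have hkerM : φ.ker ≤ M := fun x hx => by
    rw [← hstab]
    exact Equiv.Perm.ext_iff.1 (MonoidHom.mem_ker.1 hx) o
  haveI : IsPreprimitive φ.range (G ⧸ M) := by
    let f : (G ⧸ M) →ₑ[φ.rangeRestrict] (G ⧸ M) := { toFun := id, map_smul' := fun _ _ => rfl }
    exact IsPreprimitive.of_surjective (f := f) Function.surjective_id
  set A' := A.map φ.rangeRestrict with hA'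
  haveI hA'c : IsCyclic A' :=
    isCyclic_of_surjective (φ.rangeRestrict.subgroupMap A) (φ.rangeRestrict.subgroupMap_surjective A)
  haveI hA't : IsPretransitive A' (G ⧸ M) := by
    have hfrom : ∀ y : G ⧸ M, ∃ t : A', t • o = y := fun y => by
      obtain ⟨g, rfl⟩ := QuotientGroup.mk_surjective y
      obtain ⟨a, ha, b, hb, rfl⟩ := hAB g
      refine ⟨⟨φ.rangeRestrict a, a, ha, rfl⟩, ?_⟩
      show (QuotientGroup.mk (a * 1) : G ⧸ M) = QuotientGroup.mk (a * b)
      rw [QuotientGroup.eq]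
      simpa using hBM hb
    refine ⟨fun x y => ?_⟩
    obtain ⟨s, rfl⟩ := hfrom x
    obtain ⟨t, rfl⟩ := hfrom y
    exact ⟨t * s⁻¹, by rw [mul_smul, inv_smul_smul]⟩
  by_cases hsol : Group.IsSolvable φ.range
  · -- soluble top group
    exfalso
    obtain ⟨k, hk⟩ := CfsgLib.GWApps.exists_derivedSeries_succ G
    have hstable : ∀ j, derivedSeries G (k + j) = derivedSeries G k := by
      intro j
      induction j with
      | zero => rfl
      | succ j ihj => rw [← add_assoc, derivedSeries_succ, ihj, ← derivedSeries_succ, hk]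
    set Q := derivedSeries G k with hQ
    haveI : Q.Normal := derivedSeries_normal G k
    have hperf : ⁅Q, Q⁆ = Q := hk
    have hQne : Q ≠ ⊥ := fun e => hns ((isSolvable_def G).2 ⟨k, e⟩)
    have hQker : Q ≤ φ.ker := by
      obtain ⟨m, hm⟩ := (isSolvable_def φ.range).1 hsol
      rw [← hstable m]
      intro x hx
      have h1 : φ.rangeRestrict x ∈ derivedSeries φ.range (k + m) :=
        map_derivedSeries_le_derivedSeries φ.rangeRestrict (k + m) ⟨x, hx, rfl⟩
      have h2 := derivedSeries_antitone φ.range (Nat.le_add_left m k) h1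
      rw [hm, Subgroup.mem_bot] at h2
      exact MonoidHom.mem_ker.2 (congrArg Subtype.val h2)
    have hGQ : Group.IsSolvable (G ⧸ Q) := (isSolvable_def _).2 ⟨k, by
      rw [← map_derivedSeries_eq (QuotientGroup.mk'_surjective Q), ← hQ, QuotientGroup.map_mk'_self]⟩
    have hMns : ¬ Group.IsSolvable M := fun hs => by
      haveI := hs
      exact hQne (hrad Q inferInstance
        (solvable_of_solvable_injective (Subgroup.inclusion_injective (hQker.trans hkerM))))
    obtain ⟨R, hRn, hRs, hRmax⟩ := exists_radical M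
    haveI := hRn
    haveI := hRs
    have hcard : Nat.card (M ⧸ R) < n := by
      rw [← hn]
      refine lt_of_le_of_lt (Nat.le_of_dvd Nat.card_pos (Subgroup.card_quotient_dvd_card R))
        (lt_of_le_of_ne (Nat.le_of_dvd Nat.card_pos (Subgroup.card_subgroup_dvd_card M)) fun e => hM.1 ?_)
      exact Subgroup.eq_top_of_card_eq M e
    haveI : IsCyclic (A.subgroupOf M) := isCyclic_of_injective
      ((M.subtype.comp (A.subgroupOf M).subtype).codRestrict A fun x => x.2)
      (fun x y hxy => Subtype.ext (Subtype.ext (congrArg Subtype.val hxy :)))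
    haveI : IsZGroup (B.subgroupOf M) := IsZGroup.of_injective
      (f := (Subgroup.subgroupOfEquivOfLe hBM).toMonoidHom) (Subgroup.subgroupOfEquivOfLe hBM).injective
    obtain ⟨hA1, hB1, hAB1⟩ := factorization_map (QuotientGroup.mk' R) (QuotientGroup.mk'_surjective R)
      (A.subgroupOf M) (B.subgroupOf M) (fun m => by
        obtain ⟨a, ha, haM, b, hb, e⟩ := hMdec m m.2
        exact ⟨⟨a, haM⟩, ha, ⟨b, hBM hb⟩, hb, Subtype.ext e⟩)
    have hres := ih _ hcard (M ⧸ R) _ _ rfl (fun hs => hMns (by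
        haveI := hs
        exact solvable_of_ker_le_range R.subtype (QuotientGroup.mk' R)
          (by rw [QuotientGroup.ker_mk', Subgroup.range_subtype])))
      hA1 hB1 hAB1 (radFree_quotient R hRmax)
    exact soluble_top_false hrad M hM.1 Q (hQker.trans hkerM) hperf hQne hGQ R hres
  -- insoluble top group
  have hreg' : ∀ x : G ⧸ M, stabilizer A' x = ⊥ := by
    haveI : IsMulCommutative A' := IsCyclic.isMulCommutative
    exact fun x => stabilizer_eq_bot_of_comm A' x
  have hfix1 : ∀ a ∈ A, φ a o = o → φ a = 1 := by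
    intro a ha hfix
    have h1 : (⟨φ.rangeRestrict a, a, ha, rfl⟩ : A') ∈ stabilizer A' o := hfix
    rw [hreg' o, Subgroup.mem_bot] at h1
    exact congrArg (fun x : A' => ((x : φ.range) : Equiv.Perm (G ⧸ M))) h1
  have hzg : IsZGroup (stabilizer φ.range o) := by
    refine IsZGroup.of_surjective (f := (φ.rangeRestrict.comp B.subtype).codRestrict
      (stabilizer φ.range o) fun b => ?_) ?_
    · show φ b o = o
      exact (hstab.symm ▸ hBM b.2 : (b : G) ∈ stabilizer G o)
    · rintro ⟨⟨_, g, rfl⟩, hg⟩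
      have hgM : g ∈ M := hstab ▸ (hg : g ∈ stabilizer G o)
      obtain ⟨a, ha, haM, b, hb, rfl⟩ := hMdec g hgM
      refine ⟨⟨b, hb⟩, Subtype.ext (Subtype.ext ?_)⟩
      show φ b = φ (a * b)
      rw [map_mul, hfix1 a ha (hstab.symm ▸ haM : a ∈ stabilizer G o), one_mul]
  obtain ⟨hev, hyp, -, hcardA', -, -⟩ := primitive_case hsol A' o hzg
  -- the kernel is trivial
  have hker : φ.ker = ⊥ := by
    refine hrad _ inferInstance ?_
    obtain ⟨P, α, β, hαA, hβB, hαP, hβP, hα, hβ, hdec⟩ := exists_sylow_factor A B hAB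
    have hα1 : φ α ≠ 1 := by
      intro e
      -- the two-part of the cyclic group acts faithfully, as the degree is even
      obtain ⟨⟨x, hx⟩, hxo⟩ := exists_prime_orderOf_dvd_card' (G := A') 2 (hcardA' ▸ hev.two_dvd)
      obtain ⟨a, ha, rfl⟩ := hx
      set k := (Nat.card A) / 2 ^ (Nat.card A).factorization 2 with hk
      have hak : a ^ k ∈ Subgroup.zpowers α := by
        have h1 : orderOf (⟨a, ha⟩ ^ k : A) ∣ Nat.card (Subgroup.zpowers (⟨α, hαA⟩ : A)) := by
          rw [Nat.card_zpowers, Subgroup.orderOf_mk α hαA, hα]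
          refine orderOf_dvd_of_pow_eq_one ?_
          rw [← pow_mul, hk, Nat.div_mul_cancel (Nat.ordProj_dvd _ _), pow_card_eq_one']
        have h2 : (⟨a, ha⟩ ^ k : A) ∈ Subgroup.zpowers (⟨α, hαA⟩ : A) := by
          haveI : IsMulCommutative A := IsCyclic.isMulCommutative
          let SA : Sylow 2 A := Sylow.ofCard (Subgroup.zpowers (⟨α, hαA⟩ : A))
            (by rw [Nat.card_zpowers, Subgroup.orderOf_mk α hαA, hα])
          rw [Nat.card_zpowers, Subgroup.orderOf_mk α hαA, hα] at h1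
          obtain ⟨s, -, hs⟩ := (Nat.dvd_prime_pow Nat.prime_two).1 h1
          obtain ⟨T, hT⟩ := (CfsgLib.TwoGroupTricks.isPGroup_zpowers (p := 2)
            (x := (⟨a, ha⟩ ^ k : A)) ⟨s, hs⟩).exists_le_sylow
          obtain ⟨c, hc⟩ := MulAction.exists_smul_eq A T SA
          show _ ∈ (SA : Subgroup A)
          rw [← hc, Sylow.coe_subgroup_smul]
          have h5 := Subgroup.smul_mem_pointwise_smul _ (MulAut.conj c) _ (hT (Subgroup.mem_zpowers _))
          rwa [show MulAut.conj c • ((⟨a, ha⟩ : A) ^ k) = (⟨a, ha⟩ : A) ^ k from by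
            show c * _ * c⁻¹ = _
            rw [mul_comm' c, mul_inv_cancel_right]] at h5
        obtain ⟨i, hi⟩ := Subgroup.mem_zpowers_iff.1 h2
        exact Subgroup.mem_zpowers_iff.2 ⟨i, congrArg Subtype.val hi⟩
      obtain ⟨i, hi⟩ := Subgroup.mem_zpowers_iff.1 hak
      have h3 : φ.rangeRestrict a ^ k = 1 := Subtype.ext (by
        rw [SubmonoidClass.coe_pow, MonoidHom.coe_rangeRestrict, ← map_pow, ← hi, map_zpow, e, one_zpow]
        rfl)
      have h4 : 2 ∣ k := by
        rw [← hxo, ← Subgroup.orderOf_coe]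
        exact orderOf_dvd_of_pow_eq_one h3
      exact Nat.not_dvd_ordCompl Nat.prime_two Nat.card_pos.ne' h4
    have hβ1 : φ β ≠ 1 := by
      intro e
      obtain ⟨⟨x, hx⟩, hxo⟩ := exists_prime_orderOf_dvd_card' (G := stabilizer φ.range o) 2
        (Nat.dvd_of_factorization_pos (hyp.stab_two_pos hsol))
      obtain ⟨g, rfl⟩ : ∃ g, φ.rangeRestrict g = x := φ.rangeRestrict_surjective x
      have hgM : g ∈ M := hstab ▸ (hx : g ∈ stabilizer G o)
      obtain ⟨a, ha, haM, b, hb, rfl⟩ := hMdec g hgM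
      have hxb : φ.rangeRestrict (a * b) = φ.rangeRestrict b := Subtype.ext (by
        show φ (a * b) = φ b
        rw [map_mul, hfix1 a ha (hstab.symm ▸ haM : a ∈ stabilizer G o), one_mul])
      rw [Subgroup.orderOf_mk, hxb] at hxo
      -- a power of `b` of odd index lies in a conjugate of `⟨β⟩`
      obtain ⟨QB, hQB⟩ := (CfsgLib.TwoGroupTricks.isPGroup_zpowers (p := 2) (x := (⟨β, hβB⟩ : B))
        ⟨_, by rw [Subgroup.orderOf_mk]; exact hβ⟩).exists_le_sylow
      have hQBeq : (QB : Subgroup B) = Subgroup.zpowers (⟨β, hβB⟩ : B) :=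
        (Subgroup.eq_of_le_of_card_ge hQB (by
          rw [QB.card_eq_multiplicity, Nat.card_zpowers, Subgroup.orderOf_mk, hβ])).symm
      set k := Nat.card B / 2 ^ (Nat.card B).factorization 2 with hk
      obtain ⟨T, hT⟩ := (CfsgLib.TwoGroupTricks.isPGroup_zpowers (p := 2) (x := (⟨b, hb⟩ : B) ^ k)
        (by
          obtain ⟨s, -, hs⟩ := (Nat.dvd_prime_pow Nat.prime_two).1
            (orderOf_dvd_of_pow_eq_one (x := (⟨b, hb⟩ : B) ^ k) (n := 2 ^ (Nat.card B).factorization 2)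
              (by rw [← pow_mul, hk, Nat.div_mul_cancel (Nat.ordProj_dvd _ _), pow_card_eq_one']))
          exact ⟨s, hs⟩)).exists_le_sylow
      obtain ⟨c, hc⟩ := MulAction.exists_smul_eq B T QB
      have hcb : c * (⟨b, hb⟩ : B) ^ k * c⁻¹ ∈ (QB : Subgroup B) := by
        rw [← hc, Sylow.coe_subgroup_smul]
        exact Subgroup.smul_mem_pointwise_smul _ (MulAut.conj c) _ (hT (Subgroup.mem_zpowers _))
      rw [hQBeq] at hcb
      obtain ⟨i, hi⟩ := Subgroup.mem_zpowers_iff.1 hcb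
      have h2 : φ (c : G) * φ b ^ k * (φ (c : G))⁻¹ = 1 := by
        rw [← map_pow, ← map_inv, ← map_mul, ← map_mul,
          show (c : G) * b ^ k * (c : G)⁻¹ = β ^ i from (congrArg Subtype.val hi).symm,
          map_zpow, e, one_zpow]
      rw [conj_eq_one_iff] at h2
      have h4 : 2 ∣ k := by
        rw [← hxo]
        exact orderOf_dvd_of_pow_eq_one (Subtype.ext h2)
      exact Nat.not_dvd_ordCompl Nat.prime_two Nat.card_pos.ne' h4
    refine isSolvable_of_normalPComplement (Cfsg.Agent.S0081.result P φ.ker ?_)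
    rintro x ⟨hxK, hxP⟩
    obtain ⟨i, j, rfl⟩ := hdec x hxP
    have hK1 : φ α ^ i * φ β ^ j = 1 := by rw [← map_pow, ← map_pow, ← map_mul]; exact hxK
    have hβfix : φ (β ^ j) o = o := (hstab.symm ▸ pow_mem (hBM hβB) j : β ^ j ∈ stabilizer G o)
    have hαi : φ (α ^ i) = 1 := hfix1 _ (pow_mem hαA i) (by
      rw [map_pow, eq_inv_of_mul_eq_one_left hK1]
      show (φ β ^ j)⁻¹ o = o
      rw [Equiv.Perm.inv_eq_iff_eq, ← map_pow]
      exact hβfix.symm)
    have hβj : φ β ^ j = 1 := by rw [map_pow] at hαi; rwa [hαi, one_mul] at hK1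
    obtain ⟨i', rfl⟩ := ne_one_two_part (v := (Nat.card A).factorization 2)
      (by rw [← map_pow, ← hα, pow_orderOf_eq_one, map_one]) hα1 (by rw [← map_pow]; exact hαi)
    obtain ⟨j', rfl⟩ := ne_one_two_part (v := (Nat.card B).factorization 2)
      (by rw [← map_pow, ← hβ, pow_orderOf_eq_one, map_one]) hβ1 hβj
    refine ⟨⟨α ^ i', pow_mem hαP i'⟩ * ⟨α ^ i', pow_mem hαP i'⟩ *
      (⟨β ^ j', pow_mem hβP j'⟩ * ⟨β ^ j', pow_mem hβP j'⟩),
      mul_mem (sq_mem_frattini P.isPGroup' _) (sq_mem_frattini P.isPGroup' _), ?_⟩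
    show α ^ i' * α ^ i' * (β ^ j' * β ^ j') = _
    rw [← pow_add, ← pow_add]
  -- so `G` is primitive with regular cyclic `A`
  have hinj : Function.Injective φ := (MonoidHom.ker_eq_bot_iff φ).1 hker
  haveI : FaithfulSMul G (G ⧸ M) := ⟨fun {g g'} h => hinj (Equiv.ext h)⟩
  letI : MulAction A (G ⧸ M) := MulAction.instMulAction A
  haveI : IsPretransitive A (G ⧸ M) := ⟨fun x y => by
    obtain ⟨⟨_, a, ha, rfl⟩, h⟩ := hA't.exists_smul_eq x y
    exact ⟨⟨a, ha⟩, h⟩⟩
  have hregA : ∀ x : G ⧸ M, stabilizer A x = ⊥ := by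
    haveI : IsMulCommutative A := IsCyclic.isMulCommutative
    exact fun x => stabilizer_eq_bot_of_comm A x
  have hMB : M = B := le_antisymm (fun m hm => by
    obtain ⟨a, ha, haM, b, hb, rfl⟩ := hMdec m hm
    have h1 : (⟨a, ha⟩ : A) ∈ stabilizer A o := (hstab.symm ▸ haM : a ∈ stabilizer G o)
    rw [hregA o, Subgroup.mem_bot] at h1
    rw [show a = 1 from congrArg Subtype.val h1, one_mul]
    exact hb) hBM
  haveI : IsZGroup (stabilizer G o) := by
    rw [hstab, hMB]; infer_instance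
  obtain ⟨hevG, -, hd, hcardA, -, hS⟩ := primitive_case hns A o inferInstance
  refine almost_simple_case hGW hns hrad.oddCore_eq_bot hd A B (hcardA ▸ hevG) ?_ hS
  rw [hcardA, ← hMB, Subgroup.index_eq_card]

/-- The theorem on the quotient by the solvable radical. -/
theorem pgl_two_of_factorization (hGW : CfsgLib.GWApps.GWHyp.{u}) {G : Type u} [Group G] [Finite G]
    (hns : ¬ Group.IsSolvable G) (A B : Subgroup G) [IsCyclic A] [IsZGroup B]
    (hAB : ∀ g : G, ∃ a ∈ A, ∃ b ∈ B, g = a * b) (R : Subgroup G) [R.Normal] [Group.IsSolvable R]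
    (hRmax : ∀ N : Subgroup G, N.Normal → Group.IsSolvable N → N ≤ R) :
    ∃ (F : Type) (_ : Field F) (_ : Fintype F) (p : ℕ), p.Prime ∧ 3 < p ∧ Fintype.card F = p ∧
      Nonempty ((G ⧸ R) ≃* (GL (Fin 2) F ⧸ Subgroup.center (GL (Fin 2) F))) := by
  obtain ⟨hA1, hB1, hAB1⟩ := factorization_map (QuotientGroup.mk' R) (QuotientGroup.mk'_surjective R)
    A B hAB
  obtain ⟨F, iF, iT, hp, hp3, ⟨e⟩⟩ := main_aux hGW _ (G ⧸ R) _ _ rfl (fun hs => hns (by
      haveI := hs
      exact solvable_of_ker_le_range R.subtype (QuotientGroup.mk' R)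
        (by rw [QuotientGroup.ker_mk', Subgroup.range_subtype])))
    hA1 hB1 hAB1 (radFree_quotient R hRmax)
  exact ⟨F, iF, iT, _, hp, hp3, rfl, ⟨e.trans quotCenterEquiv.symm⟩⟩

end CfsgLib.Derangements.CyclicTimesZ
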