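import Cfsg.Agent.Lib.Derangements.CyclicTimesZ.Pair
import Mathlib.GroupTheory.Perm.Cycle.Type

/-!
# The centralizer of an involution acting on its fixed points
-/

set_option autoImplicit false
set_option linter.style.haveILetI false

open Subgroup MulAction

namespace CfsgLib.Derangements.CyclicTimesZ

universe u

variable {Y : Type u} [Group Y] {Ω : Type u} [MulAction Y Ω]

/-- The fixed points of `z`. -/
abbrev Fix (Ω : Type u) [MulAction Y Ω] (z : Y) : Type u := {x : Ω // z • x = x}

theorem fix_smul_iff {z g : Y} (hg : g ∈ Subgroup.centralizer ({z} : Set Y)) (x : Ω) :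
    z • g • x = g • x ↔ z • x = x := by
  have hc : z * g = g * z := Subgroup.mem_centralizer_iff.1 hg z rfl
  rw [← mul_smul, hc, mul_smul, smul_left_cancel_iff]

/-- The centralizer of `z` acting on the fixed points of `z`. -/
def fixAct (Ω : Type u) [MulAction Y Ω] (z : Y) :
    Subgroup.centralizer ({z} : Set Y) →* Equiv.Perm (Fix Ω z) :=
  MonoidHom.mk' (fun g => (MulAction.toPerm (g : Y)).subtypePerm fun x => fix_smul_iff g.2 x)
    fun g h => Equiv.ext fun x => Subtype.ext (mul_smul (g : Y) (h : Y) (x : Ω))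

@[simp] theorem fixAct_apply (z : Y) (g : Subgroup.centralizer ({z} : Set Y)) (x : Fix Ω z) :
    ((fixAct Ω z g x : Fix Ω z) : Ω) = (g : Y) • (x : Ω) := rfl

theorem fixAct_range_smul {z : Y} (g : Subgroup.centralizer ({z} : Set Y)) (x : Fix Ω z) :
    (((⟨fixAct Ω z g, g, rfl⟩ : (fixAct Ω z).range) • x : Fix Ω z) : Ω) = (g : Y) • (x : Ω) := rfl

variable [Finite Y] [Finite Ω] [FaithfulSMul Y Ω] {a : Ω}

/-- The fixed points of an involution that is a square have number congruent to the degree
modulo four. -/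
theorem four_dvd_fix {z w : Y} (hz : orderOf z = 2) (hw : z = w * w) (h4 : 4 ∣ Nat.card Ω) :
    4 ∣ Nat.card (Fix Ω z) := by
  classical
  haveI := Fintype.ofFinite Ω
  let σ : Equiv.Perm Ω := MulAction.toPermHom Y Ω z
  have hσo : orderOf σ = 2 := by
    rw [orderOf_injective _ MulAction.toPerm_injective, hz]
  obtain ⟨k, hk⟩ := Equiv.Perm.cycleType_prime_order (σ := σ) (by rw [hσo]; exact Nat.prime_two)
  rw [hσo] at hk
  have hsign : Equiv.Perm.sign σ = 1 := by
    show Equiv.Perm.sign (MulAction.toPermHom Y Ω z) = 1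
    rw [hw, map_mul, map_mul, Int.units_mul_self]
  rw [Equiv.Perm.sign_of_cycleType, hk, Multiset.sum_replicate, Multiset.card_replicate, smul_eq_mul,
    neg_one_pow_eq_one_iff_even (by decide)] at hsign
  have hsupp : σ.support.card = (k + 1) * 2 := by
    rw [← Equiv.Perm.sum_cycleType, hk, Multiset.sum_replicate, smul_eq_mul]
  have hsplit : Nat.card (Fix Ω z) + σ.support.card = Nat.card Ω := by
    rw [Nat.card_eq_fintype_card, Nat.card_eq_fintype_card, Fintype.card_subtype,
      ← Finset.card_univ]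
    show _ + (Finset.univ.filter fun x : Ω => ¬ z • x = x).card = _
    exact Finset.card_filter_add_card_filter_not (s := Finset.univ) (fun x : Ω => z • x = x)
  rw [hsupp] at hsplit
  obtain ⟨m, hm⟩ := hsign
  omega

/-- The centralizer of an involution of a point stabilizer is doubly transitive on its fixed points. -/
theorem Hyp.fix_two (h : Hyp Y a) {z : Y} (hz : orderOf z = 2) :
    IsMultiplyPretransitive (fixAct Ω z).range (Fix Ω z) 2 := by
  haveI := h.two
  haveI := h.pretransitive
  rw [MulAction.is_two_pretransitive_iff]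
  intro p q r s hpq hrs
  have hpq' : (p : Ω) ≠ q := fun e => hpq (Subtype.ext e)
  have hrs' : (r : Ω) ≠ s := fun e => hrs (Subtype.ext e)
  obtain ⟨g, hgp, hgq⟩ := MulAction.is_two_pretransitive_iff.1 h.two hpq' hrs'
  set K := stabilizer Y (r : Ω) ⊓ stabilizer Y (s : Ω) with hK
  obtain ⟨t, ht⟩ := MulAction.exists_smul_eq Y (r : Ω) a
  haveI := h.zg
  haveI : IsZGroup K := by
    refine IsZGroup.of_injective
      (f := ((MulAut.conj t).toMonoidHom.comp K.subtype).codRestrict (stabilizer Y a) fun x => ?_) ?_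
    · show (t * (x : Y) * t⁻¹) • a = a
      rw [← ht, mul_smul, inv_smul_smul, mul_smul, (x.2.1 : (x : Y) • (r : Ω) = r)]
    · intro x y hxy
      exact Subtype.ext ((MulAut.conj t).injective (congrArg Subtype.val hxy))
  have hzK : z ∈ K := ⟨r.2, s.2⟩
  have hz' : g * z * g⁻¹ ∈ K :=
    ⟨by
      show (g * z * g⁻¹) • (r : Ω) = r
      rw [← hgp, mul_smul, inv_smul_smul, mul_smul, p.2],
    by
      show (g * z * g⁻¹) • (s : Ω) = s
      rw [← hgq, mul_smul, inv_smul_smul, mul_smul, q.2]⟩
  obtain ⟨k, hk, hkz⟩ := exists_conj_of_involutions hz' hzK (by rw [orderOf_conj, hz]) hz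
  have hkg : k * g ∈ Subgroup.centralizer ({z} : Set Y) := by
    rw [Subgroup.mem_centralizer_singleton_iff]
    calc k * g * z = k * (g * z * g⁻¹) * k⁻¹ * (k * g) := by group
      _ = z * (k * g) := by rw [hkz]
  refine ⟨⟨fixAct Ω z ⟨k * g, hkg⟩, _, rfl⟩, Subtype.ext ?_, Subtype.ext ?_⟩
  · rw [fixAct_range_smul, mul_smul, hgp]
    exact hk.1
  · rw [fixAct_range_smul, mul_smul, hgq]
    exact hk.2

/-- The stabilizer in the action on fixed points is a Z-group. -/
theorem Hyp.fix_zg (h : Hyp Y a) {z : Y} (hza : z • a = a) :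
    IsZGroup (stabilizer (fixAct Ω z).range (⟨a, hza⟩ : Fix Ω z)) := by
  haveI := h.zg
  let Ca := stabilizer (Subgroup.centralizer ({z} : Set Y)) a
  haveI : IsZGroup Ca :=
    IsZGroup.of_injective
      (f := ((Subgroup.centralizer ({z} : Set Y)).subtype.comp Ca.subtype).codRestrict
        (stabilizer Y a) fun x => x.2)
      fun x y hxy => Subtype.ext (Subtype.ext (congrArg Subtype.val hxy :))
  refine IsZGroup.of_surjective
    (f := ((fixAct Ω z).rangeRestrict.comp Ca.subtype).codRestrict _ fun x => Subtype.ext x.2) ?_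
  rintro ⟨⟨_, g, rfl⟩, hg⟩
  exact ⟨⟨g, congrArg Subtype.val hg⟩, rfl⟩

/-- The order of the centralizer of an involution of the stabilizer. -/
theorem Hyp.card_centralizer (h : Hyp Y a) {z : Y} (hz : orderOf z = 2) (hza : z • a = a) :
    Nat.card (Subgroup.centralizer ({z} : Set Y)) =
      Nat.card (Fix Ω z) * Nat.card (stabilizer (Subgroup.centralizer ({z} : Set Y)) a) := by
  haveI := h.fix_two hz
  haveI : IsPretransitive (fixAct Ω z).range (Fix Ω z) :=
    MulAction.isPretransitive_of_is_two_pretransitive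
  have horb : MulAction.orbit (Subgroup.centralizer ({z} : Set Y)) a = {x : Ω | z • x = x} := by
    ext x
    constructor
    · rintro ⟨g, rfl⟩
      exact (fix_smul_iff g.2 a).2 hza
    · intro hx
      obtain ⟨⟨_, g, rfl⟩, hg⟩ := MulAction.exists_smul_eq (fixAct Ω z).range
        (⟨a, hza⟩ : Fix Ω z) ⟨x, hx⟩
      exact ⟨g, congrArg Subtype.val hg⟩
  rw [← Subgroup.card_mul_index (stabilizer (Subgroup.centralizer ({z} : Set Y)) a),
    MulAction.index_stabilizer, horb, mul_comm, ← Nat.card_coe_set_eq]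
  rfl

end CfsgLib.Derangements.CyclicTimesZ
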