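import Cfsg.Agent.Lib.Derangements.CyclicTimesZ.FixAct
import Mathlib.GroupTheory.Nilpotent

/-!
# Degree divisible by four: the stabilizer has 2-part two
-/

set_option autoImplicit false
set_option linter.style.haveILetI false

open Subgroup MulAction

namespace CfsgLib.Derangements.CyclicTimesZ

universe u

theorem orderOf_pow_two_pow {G : Type*} [Group G] {x : G} {k l : ℕ} (hx : orderOf x = 2 ^ k)
    (hl : l ≤ k) : orderOf (x ^ 2 ^ l) = 2 ^ (k - l) := by
  rw [orderOf_pow' _ (by positivity), hx, Nat.gcd_eq_right (pow_dvd_pow 2 hl), Nat.pow_div hl two_pos]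

variable {Y : Type u} [Group Y] [Finite Y] {Ω : Type u} [MulAction Y Ω] [Finite Ω]
  [FaithfulSMul Y Ω] {a : Ω}

set_option maxHeartbeats 1600000 in
theorem Hyp.stab_not_four_dvd (h : Hyp Y a) (hns : ¬ Group.IsSolvable Y) (h4 : 4 ∣ Nat.card Ω)
    (IH : ∀ (Y' Ω' : Type u) [Group Y'] [Finite Y'] [MulAction Y' Ω'] [Finite Ω']
      [FaithfulSMul Y' Ω'] (a' : Ω'), Nat.card Y' < Nat.card Y → Hyp Y' a' →
        4 ∣ Nat.card Ω' → InnerConcl Y' a') :
    ¬ 4 ∣ Nat.card (stabilizer Y a) := by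
  classical
  intro hb4
  haveI : Fact (Nat.Prime 2) := ⟨Nat.prime_two⟩
  haveI := h.two
  haveI := h.pretransitive
  haveI := h.zg
  haveI : Nonempty Ω := ⟨a⟩
  set b := (Nat.card (stabilizer Y a)).factorization 2 with hb
  obtain ⟨b', hb'⟩ : ∃ b', b = b' + 2 := ⟨b - 2, by
    have : 2 ≤ b := (Nat.prime_two.pow_dvd_iff_le_factorization Nat.card_pos.ne').1
      (by simpa using hb4)
    omega⟩
  set v := (Nat.card Ω).factorization 2 with hv
  obtain ⟨Q⟩ : Nonempty (Sylow 2 (stabilizer Y a)) := inferInstance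
  haveI : IsCyclic (Q : Subgroup (stabilizer Y a)) := h.zg.isZGroup 2 Nat.prime_two Q
  obtain ⟨βQ, hβQ⟩ := IsCyclic.exists_generator (α := (Q : Subgroup (stabilizer Y a)))
  set β : Y := ((βQ : stabilizer Y a) : Y) with hβdef
  have hβ : orderOf β = 2 ^ (b' + 2) := by
    rw [hβdef, Subgroup.orderOf_coe, Subgroup.orderOf_coe,
      orderOf_eq_card_of_forall_mem_zpowers hβQ, Q.card_eq_multiplicity, ← hb', hb]
  have hβa : β • a = a := (βQ : stabilizer Y a).2
  have hβpow : ∀ i : ℕ, β ^ i • a = a := fun i =>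
    (pow_mem (show β ∈ stabilizer Y a from hβa) i : β ^ i ∈ stabilizer Y a)
  set z := β ^ 2 ^ (b' + 1) with hzdef
  have hz : orderOf z = 2 := by
    rw [hzdef, orderOf_pow_two_pow hβ (by omega), show b' + 2 - (b' + 1) = 1 by omega, pow_one]
  have hz2 : z * z = 1 := mul_self_of_orderOf hz
  have hza : z • a = a := hβpow _
  set w := β ^ 2 ^ b' with hwdef
  have hzw : z = w * w := by rw [hzdef, hwdef, ← pow_add, pow_succ, mul_two]
  -- fixed points
  have hf4 := four_dvd_fix (Ω := Ω) hz hzw h4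
  set C := Subgroup.centralizer ({z} : Set Y) with hC
  set θ := fixAct Ω z with hθ
  set a' : Fix Ω z := ⟨a, hza⟩ with ha'
  set r := (Nat.card (Fix Ω z)).factorization 2 with hr
  haveI : Nonempty (Fix Ω z) := ⟨a'⟩
  have hfpos : Nat.card (Fix Ω z) ≠ 0 := Nat.card_pos.ne'
  obtain ⟨r', hr'⟩ : ∃ r', r = r' + 2 := ⟨r - 2, by
    have : 2 ≤ r := (Nat.prime_two.pow_dvd_iff_le_factorization hfpos).1 (by simpa using hf4)
    omega⟩
  have hβC : β ∈ C := by
    rw [hC, Subgroup.mem_centralizer_singleton_iff, hzdef]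
    exact (Commute.refl β).pow_right _
  -- Sylow subgroups of `C` and `Y`
  obtain ⟨P0, hP0⟩ := (CfsgLib.TwoGroupTricks.isPGroup_zpowers (p := 2) (x := (⟨β, hβC⟩ : C))
    ⟨b' + 2, by rw [Subgroup.orderOf_mk]; exact hβ⟩).exists_le_sylow
  have hP0p : IsPGroup 2 ((P0 : Subgroup C).map C.subtype) := P0.isPGroup'.map _
  obtain ⟨S, hS⟩ := hP0p.exists_le_sylow
  have hβS : β ∈ (S : Subgroup Y) := hS ⟨⟨β, hβC⟩, hP0 (Subgroup.mem_zpowers _), rfl⟩
  have hScard : Nat.card (S : Subgroup Y) = 2 ^ (v + b) := by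
    rw [S.card_eq_multiplicity, h.card_factorization]
  obtain ⟨α, hαS, hα, hαs⟩ := h.exists_sylow S
  rw [← hv] at hα
  have hprod : ∀ i i' j j' : ℕ, α ^ i * β ^ j = α ^ i' * β ^ j' → α ^ i = α ^ i' ∧ β ^ j = β ^ j' := by
    intro i i' j j' e
    have e1 : (α ^ i')⁻¹ * α ^ i = β ^ j' * (β ^ j)⁻¹ := by
      rw [eq_mul_inv_iff_mul_eq, mul_assoc, e, inv_mul_cancel_left]
    have e2 : (α ^ i')⁻¹ * α ^ i = 1 := hαs _
      (mul_mem (inv_mem (pow_mem (Subgroup.mem_zpowers α) _)) (pow_mem (Subgroup.mem_zpowers α) _)) a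
      (by rw [e1, mul_smul, inv_smul_eq_iff.2 (hβpow j).symm, hβpow])
    rw [inv_mul_eq_one] at e2
    exact ⟨e2.symm, mul_left_cancel (by rw [e, e2])⟩
  have hSdec : ∀ s ∈ (S : Subgroup Y), ∃ i j : ℕ, s = α ^ i * β ^ j := by
    let F : Fin (2 ^ v) × Fin (2 ^ b) → (S : Subgroup Y) :=
      fun p => ⟨α ^ (p.1 : ℕ) * β ^ (p.2 : ℕ), mul_mem (pow_mem hαS _) (pow_mem hβS _)⟩
    have hF : Function.Bijective F := by
      rw [Nat.bijective_iff_injective_and_card]
      refine ⟨fun p q e => ?_, by rw [Nat.card_prod, Nat.card_fin, Nat.card_fin, hScard, pow_add]⟩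
      obtain ⟨e1, e2⟩ := hprod _ _ _ _ (congrArg Subtype.val e)
      refine Prod.ext (Fin.ext (pow_injOn_Iio_orderOf ?_ ?_ e1)) (Fin.ext (pow_injOn_Iio_orderOf ?_ ?_ e2))
      · rw [hα]; exact p.1.2
      · rw [hα]; exact q.1.2
      · rw [hβ, ← hb']; exact p.2.2
      · rw [hβ, ← hb']; exact q.2.2
    intro s hs
    obtain ⟨p, hp⟩ := hF.2 ⟨s, hs⟩
    exact ⟨p.1, p.2, congrArg Subtype.val hp.symm⟩
  -- the Sylow subgroup of `C`
  set P := (S : Subgroup Y) ⊓ C with hP
  have hP0P : (P0 : Subgroup C).map C.subtype = P := by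
    have h1 : (P0 : Subgroup C).map C.subtype ≤ P := le_inf hS (Subgroup.map_subtype_le _)
    refine le_antisymm h1 ?_
    have h2 : P.subgroupOf C = (P0 : Subgroup C) := P0.3
      ((S.isPGroup'.to_le inf_le_left).comap_of_injective C.subtype C.subtype_injective)
      (fun x hx => h1 ⟨x, hx, rfl⟩)
    rw [← h2, Subgroup.map_subgroupOf_eq_of_le inf_le_right]
  have hCfac : (Nat.card C).factorization 2 = r + b := by
    rw [hC, h.card_centralizer hz hza, Nat.factorization_mul hfpos Nat.card_pos.ne',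
      Finsupp.add_apply, ← hr, Nat.add_left_cancel_iff]
    refine le_antisymm ?_ ?_
    · refine (Nat.factorization_le_iff_dvd Nat.card_pos.ne' Nat.card_pos.ne').2 ?_ 2
      exact Subgroup.card_dvd_of_injective
        ((C.subtype.comp (stabilizer C a).subtype).codRestrict (stabilizer Y a) fun x => x.2)
        fun x y e => Subtype.ext (Subtype.ext (congrArg Subtype.val e :))
    · rw [← Nat.prime_two.pow_dvd_iff_le_factorization Nat.card_pos.ne', hb', ← hβ,
        ← Subgroup.orderOf_mk β hβC]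
      have := orderOf_dvd_natCard (⟨⟨β, hβC⟩, hβa⟩ : stabilizer C a)
      rw [← Subgroup.orderOf_coe] at this
      exact this
  have hPcard : Nat.card P = 2 ^ (r + b) := by
    rw [← hP0P, Subgroup.card_map_of_injective C.subtype_injective, P0.card_eq_multiplicity, hCfac]
  set A := Subgroup.zpowers α ⊓ C with hA
  haveI : IsCyclic A :=
    isCyclic_of_injective (Subgroup.inclusion inf_le_left : A →* Subgroup.zpowers α)
      (Subgroup.inclusion_injective _)
  obtain ⟨cA, hcA⟩ := IsCyclic.exists_generator (α := A)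
  set c : Y := (cA : Y) with hcdef
  have hcC : c ∈ C := cA.2.2
  have hcα : c ∈ Subgroup.zpowers α := cA.2.1
  have hcS : c ∈ (S : Subgroup Y) := Subgroup.zpowers_le.2 hαS hcα
  have hcs : Semireg Ω c := fun k hk x hx => hαs k (Subgroup.zpowers_le.2 hcα hk) x hx
  have hcP : c ∈ P := Subgroup.mem_inf.2 ⟨hcS, hcC⟩
  have hβP : β ∈ P := Subgroup.mem_inf.2 ⟨hβS, hβC⟩
  have hPdec : ∀ p ∈ P, ∃ i j : ℕ, p = c ^ i * β ^ j := by
    intro p hp
    obtain ⟨i, j, e⟩ := hSdec p hp.1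
    have hαi : α ^ i ∈ A := ⟨pow_mem (Subgroup.mem_zpowers α) _, by
      have : α ^ i = p * (β ^ j)⁻¹ := by rw [e, mul_inv_cancel_right]
      rw [this]
      exact C.mul_mem hp.2 (C.inv_mem (C.pow_mem hβC _))⟩
    obtain ⟨k, hk⟩ := (isOfFinOrder_of_finite cA).mem_zpowers_iff_mem_range_orderOf.1 (hcA ⟨_, hαi⟩)
      |> Finset.mem_image.1
    refine ⟨k, j, ?_⟩
    rw [e, ← show (c : Y) ^ k = α ^ i from congrArg Subtype.val hk.2]
  have hc : orderOf c = 2 ^ r := by
    have hbij : Function.Bijective (fun p : Fin (orderOf c) × Fin (2 ^ b) =>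
        (⟨c ^ (p.1 : ℕ) * β ^ (p.2 : ℕ), mul_mem (pow_mem hcS _) (pow_mem hβS _),
          mul_mem (pow_mem hcC _) (pow_mem hβC _)⟩ : P)) := by
      refine ⟨fun p q e => ?_, fun ⟨p, hp⟩ => ?_⟩
      · have e' : c ^ (p.1 : ℕ) * β ^ (p.2 : ℕ) = c ^ (q.1 : ℕ) * β ^ (q.2 : ℕ) := congrArg Subtype.val e
        obtain ⟨k, hk⟩ := (isOfFinOrder_of_finite α).mem_zpowers_iff_mem_range_orderOf.1 hcα
          |> Finset.mem_image.1
        have hck : α ^ k = c := hk.2
        obtain ⟨e1, e2⟩ := hprod (k * (p.1 : ℕ)) (k * (q.1 : ℕ)) p.2 q.2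
          (by rw [pow_mul, pow_mul, hck]; exact e')
        rw [pow_mul, pow_mul, hck] at e1
        refine Prod.ext (Fin.ext (pow_injOn_Iio_orderOf p.1.2 q.1.2 e1))
          (Fin.ext (pow_injOn_Iio_orderOf ?_ ?_ e2))
        · rw [hβ, ← hb']; exact p.2.2
        · rw [hβ, ← hb']; exact q.2.2
      · obtain ⟨i, j, rfl⟩ := hPdec p hp
        refine ⟨⟨⟨i % orderOf c, Nat.mod_lt _ (orderOf_pos c)⟩, ⟨j % 2 ^ b, Nat.mod_lt _ (by positivity)⟩⟩,
          Subtype.ext ?_⟩
        show c ^ (i % orderOf c) * β ^ (j % 2 ^ b) = _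
        rw [pow_mod_orderOf, hb', ← hβ, pow_mod_orderOf]
    have := Nat.card_eq_of_bijective _ hbij
    rw [Nat.card_prod, Nat.card_fin, Nat.card_fin, hPcard, pow_add] at this
    exact Nat.eq_of_mul_eq_mul_right (by positivity) this
  -- the action on the fixed points
  set cC : C := ⟨c, hcC⟩ with hcC'
  set βC : C := ⟨β, hβC⟩ with hβC'
  have hθfix : ∀ g : C, θ g = 1 → (g : Y) • a = a := fun g hg => by
    exact congrArg Subtype.val (DFunLike.congr_fun hg a')
  have hθc : orderOf (θ cC) = 2 ^ r := by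
    rw [← hc, show orderOf c = orderOf cC from (Subgroup.orderOf_coe cC)]
    refine orderOf_eq_orderOf_iff.2 fun k => ⟨fun e => ?_, fun e => by rw [← map_pow, e, map_one]⟩
    rw [← map_pow] at e
    have := hθfix _ e
    exact Subtype.ext (hcs _ (pow_mem (Subgroup.mem_zpowers c) k) a this)
  let cR : θ.range := ⟨θ cC, cC, rfl⟩
  have hcR : orderOf cR = 2 ^ r := by rw [← Subgroup.orderOf_coe]; exact hθc
  have hsemi : ∀ g ∈ Subgroup.zpowers cR, ∀ x : Fix Ω z, g • x = x → g = 1 := by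
    intro g hg x hx
    obtain ⟨i, rfl⟩ := Subgroup.mem_zpowers_iff.1 hg
    have h1 : ((c : Y) ^ i) • (x : Ω) = x := by
      have := congrArg Subtype.val hx
      change ((((cR ^ i : θ.range) : Equiv.Perm (Fix Ω z)) x : Fix Ω z) : Ω) = x at this
      rw [SubgroupClass.coe_zpow, show ((cR : θ.range) : Equiv.Perm (Fix Ω z)) = θ cC from rfl,
        ← map_zpow, fixAct_apply, SubgroupClass.coe_zpow] at this
      exact this
    have h2 := hcs _ (zpow_mem (Subgroup.mem_zpowers c) i) _ h1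
    refine Subtype.ext ?_
    rw [SubgroupClass.coe_zpow, show ((cR : θ.range) : Equiv.Perm (Fix Ω z)) = θ cC from rfl,
      ← map_zpow, show cC ^ i = 1 from Subtype.ext h2, map_one, OneMemClass.coe_one]
  have hHyp : Hyp θ.range a' := ⟨h.fix_two hz, h.fix_zg hza, cR, hcR, hsemi⟩
  have hzC : z ∈ C := Subgroup.mem_centralizer_singleton_iff.2 rfl
  have hθz : θ ⟨z, hzC⟩ = 1 := Equiv.ext fun x => Subtype.ext x.2
  have hlt : Nat.card θ.range < Nat.card Y := by
    refine lt_of_lt_of_le ?_ (Nat.le_of_dvd Nat.card_pos (Subgroup.card_subgroup_dvd_card C))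
    rw [← Subgroup.card_mul_index θ.ker, Subgroup.index_ker]
    refine lt_mul_left Nat.card_pos ((Subgroup.one_lt_card_iff_ne_bot _).2 fun e => ?_)
    have h1 : (⟨z, hzC⟩ : C) ∈ θ.ker := hθz
    rw [e, Subgroup.mem_bot] at h1
    exact ne_one_of_orderOf hz (congrArg Subtype.val h1)
  obtain ⟨hi, hii, hiii⟩ := IH θ.range (Fix Ω z) a' hlt hHyp hf4
  let βR : θ.range := ⟨θ βC, βC, rfl⟩
  have hβRa : βR • a' = a' := Subtype.ext hβa
  have hβ2 : θ (βC ^ 2) = 1 := by
    have hd : orderOf βR ∣ 2 := by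
      obtain ⟨s, -, hs2⟩ := (Nat.dvd_prime_pow Nat.prime_two).1
        ((orderOf_map_dvd θ.rangeRestrict βC).trans
          (dvd_of_eq (show orderOf βC = 2 ^ (b' + 2) by rw [Subgroup.orderOf_mk]; exact hβ)))
      have h1 : orderOf βR ∣ Nat.card (stabilizer θ.range a') := by
        rw [← Subgroup.orderOf_mk βR (show βR ∈ stabilizer θ.range a' from hβRa)]; exact orderOf_dvd_natCard _
      have hs2' : orderOf βR = 2 ^ s := hs2
      rw [hs2'] at h1 ⊢
      rcases s with - | - | s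
      · simp
      · simp
      · exact absurd ((pow_dvd_pow 2 (by omega : 2 ≤ s + 1 + 1)).trans h1) hi
    have := congrArg Subtype.val (orderOf_dvd_iff_pow_eq_one.1 hd)
    rw [map_pow]
    exact this
  have hβ1 : θ βC ≠ 1 := by
    intro h1
    -- a cyclic Sylow subgroup makes the image solvable
    obtain ⟨T, hT⟩ : ∃ T : Sylow 2 θ.range, (T : Subgroup θ.range) = (P0 : Subgroup C).map θ.rangeRestrict :=
      ⟨P0.mapSurjective θ.rangeRestrict_surjective, Sylow.coe_mapSurjective _ _⟩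
    have hTc : IsCyclic (T : Subgroup θ.range) := by
      have hle : (T : Subgroup θ.range) ≤ Subgroup.zpowers cR := by
        rw [hT]
        rintro _ ⟨g, hg, rfl⟩
        obtain ⟨i, j, e⟩ := hPdec g (hP0P ▸ ⟨g, hg, rfl⟩)
        have hg' : g = cC ^ i * βC ^ j := Subtype.ext e
        refine Subgroup.mem_zpowers_iff.2 ⟨i, Subtype.ext ?_⟩
        rw [SubgroupClass.coe_zpow, zpow_natCast, MonoidHom.coe_rangeRestrict, hg', map_mul, map_pow,
          map_pow, h1, one_pow, mul_one]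
      exact isCyclic_of_injective (Subgroup.inclusion hle) (Subgroup.inclusion_injective _)
    haveI := CfsgLib.GWApps.GenDihedral.isSolvable_of_cyclic_sylow T hTc
    have hne : (⊤ : Subgroup θ.range) ≠ ⊥ := fun e => by
      have h2 : cR = 1 := by
        rw [← Subgroup.mem_bot, ← e]; exact Subgroup.mem_top _
      rw [h2, orderOf_one, hr', eq_comm, pow_eq_one_iff] at hcR <;> omega
    obtain ⟨E, p, hEn, hp, hEcard, hexp, -, -⟩ := hHyp.exists_elementary ⊤ hne
    haveI := Fact.mk hp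
    obtain rfl : p = 2 := by
      obtain ⟨e, he⟩ := exists_prime_orderOf_dvd_card' (G := E) 2
        (hEcard ▸ (by norm_num : 2 ∣ 4).trans hf4)
      have h2 : orderOf e ∣ p := orderOf_dvd_of_pow_eq_one (Subtype.ext (by simpa using hexp _ e.2))
      rw [he] at h2
      exact ((Nat.prime_dvd_prime_iff_eq Nat.prime_two hp).1 h2).symm
    obtain ⟨T', hT'⟩ := IsPGroup.exists_le_sylow (p := 2) (P := E)
      (fun e => ⟨1, Subtype.ext (by simpa using hexp _ e.2)⟩)
    haveI : IsCyclic (T' : Subgroup θ.range) :=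
      isCyclic_of_surjective (Sylow.equiv T T').toMonoidHom (Sylow.equiv T T').surjective
    haveI : IsCyclic E := isCyclic_of_injective (Subgroup.inclusion hT') (Subgroup.inclusion_injective _)
    obtain ⟨e, he⟩ := IsCyclic.exists_generator (α := E)
    have h2 := orderOf_dvd_of_pow_eq_one (Subtype.ext (by simpa using hexp _ e.2) : e ^ 2 = 1)
    rw [orderOf_eq_card_of_forall_mem_zpowers he, hEcard] at h2
    exact absurd (hf4.trans h2) (by norm_num)
  have hβR : orderOf βR = 2 := orderOf_eq_prime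
    (Subtype.ext (by rw [SubgroupClass.coe_pow, ← map_pow]; exact hβ2))
    fun e => hβ1 (congrArg Subtype.val e)
  have hnotin : ∀ i : ℤ, θ βC ≠ θ cC ^ i := fun i e => by
    have h1 : βR = cR ^ i := Subtype.ext (by rw [SubgroupClass.coe_zpow]; exact e)
    exact ne_one_of_orderOf hβR (hsemi _ (h1 ▸ zpow_mem (Subgroup.mem_zpowers cR) i) a' hβRa)
  have hθdec : ∀ i j : ℕ, θ (cC ^ i * βC ^ j) = θ cC ^ i * θ βC ^ (j % 2) := fun i j => by
    rw [map_mul, map_pow, map_pow]
    congr 1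
    conv_lhs => rw [← Nat.mod_add_div j 2]
    rw [pow_add, pow_mul, ← map_pow θ βC 2, hβ2, one_pow, mul_one]
  have hinv : θ βC * θ cC * (θ βC)⁻¹ = (θ cC)⁻¹ := by
    refine congrArg Subtype.val (hiii βR cR hβR hβRa hcR hsemi ?_)
    obtain ⟨i, j, e⟩ := hPdec (β * c * β⁻¹)
      (P.mul_mem (P.mul_mem hβP hcP) (P.inv_mem hβP))
    have e' : θ βC * θ cC * (θ βC)⁻¹ = θ cC ^ i * θ βC ^ (j % 2) := by
      rw [← hθdec, ← map_inv, ← map_mul, ← map_mul]
      exact congrArg θ (Subtype.ext e)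
    rcases Nat.mod_two_eq_zero_or_one j with hj | hj
    · rw [hj, pow_zero, mul_one] at e'
      exact Subgroup.mem_zpowers_iff.2 ⟨i, Subtype.ext (by
        rw [SubgroupClass.coe_zpow, zpow_natCast]; exact e'.symm)⟩
    · rw [hj, pow_one, mul_inv_eq_iff_eq_mul, mul_assoc,
        show θ βC * θ βC = 1 by rw [← map_mul, ← pow_two]; exact hβ2, mul_one] at e'
      refine (hnotin ((i : ℤ) - 1) ?_).elim
      rw [zpow_sub_one, zpow_natCast, eq_mul_inv_iff_mul_eq]
      exact e'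
  have hker : ∀ g : C, (g : Y) ∈ P → θ g = 1 → ∃ i, (g : Y) = β ^ (2 * i) := by
    intro g hg hg1
    obtain ⟨i, j, e⟩ := hPdec g hg
    rw [show g = cC ^ i * βC ^ j from Subtype.ext e, hθdec] at hg1
    rcases Nat.mod_two_eq_zero_or_one j with hj | hj
    · rw [hj, pow_zero, mul_one, ← map_pow] at hg1
      have := hcs _ (pow_mem (Subgroup.mem_zpowers c) i) a (hθfix _ hg1)
      exact ⟨j / 2, by rw [e, this, one_mul, Nat.mul_div_cancel' (Nat.dvd_of_mod_eq_zero hj)]⟩
    · rw [hj, pow_one, mul_eq_one_iff_eq_inv'] at hg1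
      exact (hnotin (-(i : ℤ)) (by rw [zpow_neg, zpow_natCast]; exact hg1)).elim
  have hzK : ∀ (i : ℕ), (β ^ (2 * i)) ^ 2 ^ b' = z ^ i := fun i => by
    rw [hzdef, ← pow_mul, ← pow_mul]
    congr 1
    rw [pow_succ]; ring
  -- a semiregular element normalizing `P` centralizes `z`
  have hγ : ∀ γ ∈ Subgroup.zpowers α, γ ∈ Subgroup.normalizer (P : Set Y) → γ ∈ C := by
    intro γ hγα hγn
    have hγc : γ * c * γ⁻¹ = c := by
      obtain ⟨i, rfl⟩ := Subgroup.mem_zpowers_iff.1 hγα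
      obtain ⟨j, hj⟩ := Subgroup.mem_zpowers_iff.1 hcα
      rw [← hj, ((Commute.refl α).zpow_zpow i j).eq, mul_inv_cancel_right]
    have hβP : β ∈ P := ⟨hβS, hβC⟩
    obtain ⟨i, j, e⟩ := hPdec _ ((Subgroup.mem_normalizer_iff.1 hγn β).1 hβP)
    rcases Nat.mod_two_eq_zero_or_one j with hj | hj
    · exfalso
      obtain ⟨k, l, e2⟩ := hPdec _ ((Subgroup.mem_normalizer_iff.1 (inv_mem hγn) β).1 hβP)
      have e3 : β = c ^ k * (c ^ i * β ^ j) ^ l := by
        rw [← e, conj_pow]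
        calc β = γ * (γ⁻¹ * β * γ⁻¹⁻¹) * γ⁻¹ := by group
          _ = γ * (c ^ k * β ^ l) * γ⁻¹ := by rw [e2]
          _ = (γ * c * γ⁻¹) ^ k * (γ * β ^ l * γ⁻¹) := by rw [conj_pow]; group
          _ = _ := by rw [hγc]
      have e4 : θ βC = θ cC ^ k * (θ cC ^ i * θ βC ^ (j % 2)) ^ l := by
        rw [← hθdec, ← map_pow, ← map_pow, ← map_mul]
        exact congrArg θ (Subtype.ext e3)
      rw [hj, pow_zero, mul_one, ← pow_mul, ← pow_add] at e4
      exact hnotin ((k + i * l : ℕ) : ℤ) (by rw [zpow_natCast]; exact e4)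
    · have hsq : θ ((cC ^ i * βC ^ j) ^ 2) = 1 := by
        rw [map_pow, hθdec, hj, pow_one, pow_two, mul_assoc (θ cC ^ i) (θ βC),
          ← mul_assoc (θ βC) (θ cC ^ i)]
        have h5 : θ βC * θ cC ^ i = (θ cC ^ i)⁻¹ * θ βC := by
          rw [← mul_inv_eq_iff_eq_mul, ← conj_pow, hinv, inv_pow]
        rw [h5, mul_assoc, ← map_mul θ βC, ← pow_two, hβ2, mul_one, mul_inv_cancel]
      obtain ⟨k, hk⟩ := hker _ (by
        show ((cC ^ i * βC ^ j) ^ 2 : C).1 ∈ P
        rw [SubmonoidClass.coe_pow, Subgroup.coe_mul, SubmonoidClass.coe_pow, SubmonoidClass.coe_pow]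
        exact P.pow_mem (P.mul_mem (P.pow_mem hcP _) (P.pow_mem hβP _)) 2) hsq
      rw [SubmonoidClass.coe_pow, Subgroup.coe_mul, SubmonoidClass.coe_pow, SubmonoidClass.coe_pow,
        show (cC : Y) = c from rfl, show (βC : Y) = β from rfl, ← e] at hk
      have e5 : γ * z * γ⁻¹ = z ^ k := by
        rw [← hzK, ← hk, conj_pow, conj_pow, ← pow_mul, hzdef, pow_succ']
      have e6 : γ * z * γ⁻¹ = z := eq_of_commute (H := stabilizer Y a)
        (by rw [e5]; exact pow_mem (show z ∈ stabilizer Y a from hza) k) hza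
        (by rw [show γ * z * γ⁻¹ * (γ * z * γ⁻¹) = γ * (z * z) * γ⁻¹ by group, hz2, mul_one,
          mul_inv_cancel])
        (by rw [Ne, conj_eq_one_iff]; exact ne_one_of_orderOf hz) hz2 (ne_one_of_orderOf hz)
        (by rw [e5]; exact ((Commute.refl z).pow_left k).eq)
      rw [hC, Subgroup.mem_centralizer_singleton_iff]
      exact mul_inv_eq_iff_eq_mul.1 e6
  -- hence `z` is central in `S`
  have hSC : (S : Subgroup Y) ≤ C := by
    by_contra hle
    have hlt' : P.subgroupOf (S : Subgroup Y) < ⊤ := by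
      rw [lt_top_iff_ne_top]
      exact fun e => hle fun s hs => ((e ▸ Subgroup.mem_top (⟨s, hs⟩ : (S : Subgroup Y)) :
        (⟨s, hs⟩ : (S : Subgroup Y)) ∈ P.subgroupOf (S : Subgroup Y)) : s ∈ P).2
    haveI := S.isPGroup'.isNilpotent
    obtain ⟨⟨s, hs⟩, hsn, hsP⟩ := SetLike.exists_of_lt
      (Group.normalizerCondition_of_isNilpotent _ hlt')
    have hsnY : s ∈ Subgroup.normalizer (P : Set Y) := by
      rw [Subgroup.mem_normalizer_iff]
      intro x
      constructor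
      · intro hx
        exact (Subgroup.mem_normalizer_iff.1 hsn ⟨x, hx.1⟩).1 hx
      · intro hx
        have hxS : x ∈ (S : Subgroup Y) := by
          have := mul_mem (mul_mem (inv_mem hs) hx.1) hs
          rwa [show s⁻¹ * (s * x * s⁻¹) * s = x by group] at this
        exact (Subgroup.mem_normalizer_iff.1 hsn ⟨x, hxS⟩).2 hx
    obtain ⟨i, j, e⟩ := hSdec s hs
    have hβn : β ^ j ∈ Subgroup.normalizer (P : Set Y) :=
      Subgroup.le_normalizer (pow_mem (⟨hβS, hβC⟩ : β ∈ P) j)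
    have hαn : α ^ i ∈ Subgroup.normalizer (P : Set Y) := by
      have := mul_mem hsnY (inv_mem hβn)
      rwa [e, mul_inv_cancel_right] at this
    refine hsP (show s ∈ P from ⟨hs, ?_⟩)
    rw [e]
    exact mul_mem (hγ _ (pow_mem (Subgroup.mem_zpowers α) i) hαn) (pow_mem hβC j)
  have hSP : ∀ s ∈ (S : Subgroup Y), ∃ i j : ℕ, s = c ^ i * β ^ j := fun s hs =>
    hPdec s ⟨hs, hSC hs⟩
  have hzcent : ∀ s ∈ (S : Subgroup Y), s * z = z * s := fun s hs =>
    Subgroup.mem_centralizer_singleton_iff.1 (hSC hs)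
  set t := c ^ 2 ^ (r' + 1) with htdef
  have ht : orderOf t = 2 := by
    rw [htdef, orderOf_pow_two_pow (hr' ▸ hc) (by omega), show r' + 2 - (r' + 1) = 1 by omega, pow_one]
  have ht2 : t * t = 1 := mul_self_of_orderOf ht
  have htS : t ∈ (S : Subgroup Y) := pow_mem hcS _
  have htfix : ∀ x : Ω, t • x ≠ x := fun x hx =>
    ne_one_of_orderOf ht (hcs _ (pow_mem (Subgroup.mem_zpowers c) _) x hx)
  have hzt : ¬ IsConj z t := fun e => by
    obtain ⟨g, hg⟩ := isConj_iff.1 e
    exact htfix (g • a) (by rw [← hg, mul_smul, inv_smul_smul, mul_smul, hza])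
  set tC : C := cC ^ 2 ^ (r' + 1) with htC
  have htCv : (tC : Y) = t := by rw [htC, SubmonoidClass.coe_pow]
  have hclass : ∀ x ∈ (S : Subgroup Y), x * x = 1 → (∀ hx : x ∈ C, θ ⟨x, hx⟩ = θ tC) →
      x = t ∨ x = t * z := by
    intro x hxS hx2 hθx
    obtain ⟨i, hi⟩ := hker (tC⁻¹ * ⟨x, hSC hxS⟩) (by
      rw [Subgroup.coe_mul, Subgroup.coe_inv, htCv]
      exact Subgroup.mem_inf.2 ⟨mul_mem (inv_mem htS) hxS, mul_mem (inv_mem (hSC htS)) (hSC hxS)⟩)
      (by rw [map_mul, map_inv, hθx (hSC hxS), inv_mul_cancel])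
    rw [Subgroup.coe_mul, Subgroup.coe_inv, htCv] at hi
    have hxt : x = t * β ^ (2 * i) := by rw [← hi, mul_inv_cancel_left]
    set d := c ^ 2 ^ r' with hd
    have hdt : t = d * d := by rw [htdef, hd, ← pow_add, pow_succ, mul_two]
    obtain ⟨k, hk⟩ := hker ((cC ^ 2 ^ r') * βC ^ 2 * (cC ^ 2 ^ r')⁻¹) (by
      rw [Subgroup.coe_mul, Subgroup.coe_mul, Subgroup.coe_inv, SubmonoidClass.coe_pow,
        SubmonoidClass.coe_pow]
      exact P.mul_mem (P.mul_mem (P.pow_mem hcP _) (P.pow_mem hβP _))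
        (P.inv_mem (P.pow_mem hcP _)))
      (by rw [map_mul, map_mul, hβ2, mul_one, map_inv, mul_inv_cancel])
    rw [Subgroup.coe_mul, Subgroup.coe_mul, Subgroup.coe_inv, SubmonoidClass.coe_pow,
      SubmonoidClass.coe_pow] at hk
    change d * β ^ 2 * d⁻¹ = β ^ (2 * k) at hk
    have hkodd : Odd k := by
      by_contra hne
      obtain ⟨k', rfl⟩ := Nat.not_odd_iff_even.1 hne
      have h1 : d * z * d⁻¹ = 1 := by
        rw [hzdef, pow_succ', pow_mul, ← conj_pow, hk, hzK, ← two_mul, pow_mul, pow_two, hz2, one_pow]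
      exact ne_one_of_orderOf hz (conj_eq_one_iff.1 h1)
    have hconj : t * β ^ (2 * i) * t⁻¹ = β ^ (2 * (i * k * k)) := by
      have hd1 : ∀ l, d * β ^ (2 * l) * d⁻¹ = β ^ (2 * (l * k)) := fun l => by
        rw [pow_mul, ← conj_pow, hk, ← pow_mul, show 2 * k * l = 2 * (l * k) by ring]
      rw [hdt, show d * d * β ^ (2 * i) * (d * d)⁻¹ = d * (d * β ^ (2 * i) * d⁻¹) * d⁻¹ by group,
        hd1, hd1]
    have hdvd : 2 ^ (b' + 2) ∣ 2 * (i * k * k) + 2 * i := by
      rw [← hβ, orderOf_dvd_iff_pow_eq_one, pow_add, ← hconj]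
      have htt : t⁻¹ = t := inv_eq_of_mul_eq_one_right ht2
      rw [htt, mul_assoc (t * β ^ (2 * i)), ← hxt]
      exact hx2
    obtain ⟨m, rfl⟩ := hkodd
    have hi2 : 2 ^ b' ∣ i := by
      have h1 : 2 ^ b' * 4 ∣ i * (2 * m * m + 2 * m + 1) * 4 := by
        convert hdvd using 1 <;> ring
      refine Nat.Coprime.dvd_of_dvd_mul_right ?_ (Nat.dvd_of_mul_dvd_mul_right (by norm_num) h1)
      refine Nat.Coprime.pow_left _ ?_
      rw [Nat.coprime_two_left]
      exact ⟨m * m + m, by ring⟩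
    obtain ⟨l, rfl⟩ := hi2
    have hzl : β ^ (2 * (2 ^ b' * l)) = z ^ l := by
      rw [hzdef, ← pow_mul]; congr 1; rw [pow_succ]; ring
    rw [hxt, hzl, ← pow_mod_orderOf z l, hz]
    rcases Nat.mod_two_eq_zero_or_one l with hl | hl <;> rw [hl]
    · left; rw [pow_zero, mul_one]
    · right; rw [pow_one]
  have hθt : ∀ x : Fix Ω z, θ tC x ≠ x := fun x hx => htfix x (by
    have := congrArg Subtype.val hx
    rwa [fixAct_apply, htCv] at this)
  -- `z` is conjugate to `t * z`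
  have hztz : IsConj z (t * z) := by
    obtain ⟨g, hgc, hgne⟩ : ∃ g : Y, Commute z (g * z * g⁻¹) ∧ g * z * g⁻¹ ≠ z := by
      by_contra hh
      push Not at hh
      exact h.no_isolated hns (even_iff_two_dvd.2 ((by norm_num : 2 ∣ 4).trans h4)) z ⟨hz, hh⟩
    set z' := g * z * g⁻¹ with hz'
    have hz'o : orderOf z' = 2 := by rw [hz', orderOf_conj, hz]
    have hz'C : z' ∈ C := Subgroup.mem_centralizer_singleton_iff.2 hgc.symm.eq
    have hz'fix : ∀ x : Fix Ω z, θ ⟨z', hz'C⟩ x ≠ x := fun x hx => by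
      have hxx : z' • (x : Ω) = x := congrArg Subtype.val hx
      obtain ⟨s, hs⟩ := MulAction.exists_smul_eq Y (x : Ω) a
      have hmem : ∀ y : Y, y • (x : Ω) = x → s * y * s⁻¹ ∈ stabilizer Y a := fun y hy => by
        show (s * y * s⁻¹) • a = a
        rw [← hs, mul_smul, inv_smul_smul, mul_smul, hy]
      refine hgne ((MulAut.conj s).injective (eq_of_commute (H := stabilizer Y a) (hmem _ hxx)
        (hmem _ x.2) ?_ ?_ ?_ ?_ ?_))
      · rw [← map_mul, mul_self_of_orderOf hz'o, map_one]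
      · rw [ne_eq, map_eq_one_iff _ (MulAut.conj s).injective]; exact ne_one_of_orderOf hz'o
      · rw [← map_mul, hz2, map_one]
      · rw [ne_eq, map_eq_one_iff _ (MulAut.conj s).injective]; exact ne_one_of_orderOf hz
      · rw [← map_mul, ← map_mul, hgc.symm.eq]
    have hinvolR : ∀ u : C, (u : Y) * u = 1 → (∀ x : Fix Ω z, θ u x ≠ x) →
        orderOf (⟨θ u, u, rfl⟩ : θ.range) = 2 := fun u hu hf => orderOf_eq_prime
      (Subtype.ext (by
        rw [SubgroupClass.coe_pow, ← map_pow, pow_two, show u * u = 1 from Subtype.ext hu, map_one,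
          OneMemClass.coe_one]))
      (fun e => hf a' (by rw [show θ u = 1 from congrArg Subtype.val e]; rfl))
    obtain ⟨⟨_, gC, rfl⟩, hgC⟩ := isConj_iff.1 (hii _ _
      (hinvolR ⟨z', hz'C⟩ (mul_self_of_orderOf hz'o) hz'fix)
      (hinvolR tC (by rw [htCv, ht2]) hθt) hz'fix hθt)
    have hgC' : θ gC * θ ⟨z', hz'C⟩ * (θ gC)⁻¹ = θ tC := congrArg Subtype.val hgC
    set wC : C := gC * ⟨z', hz'C⟩ * gC⁻¹ with hwC
    have hθw : θ wC = θ tC := by rw [hwC, map_mul, map_mul, map_inv]; exact hgC'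
    set H := (Subgroup.zpowers (θ tC)).comap θ with hH
    have hwH : wC ∈ H := by
      rw [hH, Subgroup.mem_comap, hθw]; exact Subgroup.mem_zpowers _
    have hθtsq : θ tC * θ tC = 1 := by
      rw [← map_mul, show tC * tC = 1 from Subtype.ext (by rw [Subgroup.coe_mul, htCv, ht2]; rfl), map_one]
    have hθto : orderOf (θ tC) = 2 := orderOf_eq_prime (by rw [pow_two]; exact hθtsq)
      (fun e => hθt a' (by rw [e]; rfl))
    have hHfac : (Nat.card H).factorization 2 ≤ b := by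
      have h1 : Nat.card H = Nat.card θ.ker * 2 := by
        have h2 := Subgroup.card_mul_index (θ.comp H.subtype).ker
        rw [Subgroup.index_ker, MonoidHom.range_comp, Subgroup.range_subtype,
          hH, Subgroup.map_comap_eq_self (Subgroup.zpowers_le.2 ⟨tC, rfl⟩), Nat.card_zpowers, hθto] at h2
        rw [← h2]
        congr 1
        rw [← MonoidHom.comap_ker]
        have hle : θ.ker ≤ H := fun x hx => by
          rw [hH, Subgroup.mem_comap, MonoidHom.mem_ker.1 hx]; exact one_mem _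
        exact Nat.card_congr (Subgroup.subgroupOfEquivOfLe hle).toEquiv
      have h3 : (Nat.card θ.ker).factorization 2 + (Nat.card θ.range).factorization 2 = r + b := by
        rw [← hCfac, ← Subgroup.card_mul_index θ.ker, Subgroup.index_ker,
          Nat.factorization_mul Nat.card_pos.ne' Nat.card_pos.ne', Finsupp.add_apply]
      have h4' : r + 1 ≤ (Nat.card θ.range).factorization 2 := by
        rw [hHyp.card_factorization, ← hr, Nat.add_le_add_iff_left]
        refine (Nat.Prime.dvd_iff_one_le_factorization Nat.prime_two Nat.card_pos.ne').1 ?_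
        rw [← hβR, ← Subgroup.orderOf_mk βR (show βR ∈ stabilizer θ.range a' from hβRa)]
        exact orderOf_dvd_natCard _
      rw [h1, Nat.factorization_mul Nat.card_pos.ne' (by norm_num), Finsupp.add_apply,
        Nat.prime_two.factorization_self]
      omega
    set T0 := (S : Subgroup Y).comap (C.subtype.comp H.subtype) with hT0
    have hT0p : IsPGroup 2 T0 := S.isPGroup'.comap_of_injective _
      (C.subtype_injective.comp H.subtype_injective)
    have htH : tC ∈ H := Subgroup.mem_zpowers (θ tC)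
    have hβH : βC ^ 2 ∈ H := by
      rw [hH, Subgroup.mem_comap, hβ2]; exact one_mem _
    have hT0card : 2 ^ b ≤ Nat.card T0 := by
      refine le_trans (le_of_eq ?_) (Nat.card_le_card_of_injective
        (fun p : Fin 2 × Fin (2 ^ (b' + 1)) =>
          (⟨⟨tC, htH⟩ ^ (p.1 : ℕ) * ⟨βC ^ 2, hβH⟩ ^ (p.2 : ℕ), by
            show (C.subtype.comp H.subtype) _ ∈ (S : Subgroup Y)
            rw [map_mul, map_pow, map_pow]
            exact mul_mem (pow_mem (by show (tC : Y) ∈ _; rw [htCv]; exact htS) _)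
              (pow_mem (by show ((βC ^ 2 : C) : Y) ∈ _; exact pow_mem hβS 2) _)⟩ : T0))
        fun p q e => ?_)
      · rw [Nat.card_prod, Nat.card_fin, Nat.card_fin, hb', ← pow_succ']
      have e' : t ^ (p.1 : ℕ) * (β ^ 2) ^ (p.2 : ℕ) = t ^ (q.1 : ℕ) * (β ^ 2) ^ (q.2 : ℕ) := by
        have := congrArg (fun x : T0 => (C.subtype.comp H.subtype) (x : H)) e
        simpa only [map_mul, map_pow, MonoidHom.coe_comp, Function.comp_apply, Subgroup.coe_subtype,
          SubmonoidClass.coe_pow, htCv] using this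
      obtain ⟨k, hk⟩ := (isOfFinOrder_of_finite α).mem_zpowers_iff_mem_range_orderOf.1
        (pow_mem hcα (2 ^ (r' + 1))) |> Finset.mem_image.1
      have htk : α ^ k = t := hk.2
      rw [← htk, ← pow_mul, ← pow_mul, ← pow_mul, ← pow_mul] at e'
      obtain ⟨e1, e2⟩ := hprod _ _ _ _ e'
      rw [pow_mul, pow_mul, htk] at e1
      rw [pow_mul, pow_mul] at e2
      refine Prod.ext (Fin.ext (pow_injOn_Iio_orderOf ?_ ?_ e1))
        (Fin.ext (pow_injOn_Iio_orderOf ?_ ?_ e2))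
      · rw [ht]; exact p.1.2
      · rw [ht]; exact q.1.2
      · rw [show β ^ 2 = β ^ 2 ^ 1 by rw [pow_one], orderOf_pow_two_pow hβ (by omega)]; exact p.2.2
      · rw [show β ^ 2 = β ^ 2 ^ 1 by rw [pow_one], orderOf_pow_two_pow hβ (by omega)]; exact q.2.2
    obtain ⟨s, hs⟩ := IsPGroup.iff_card.1 hT0p
    have hseq : s = (Nat.card H).factorization 2 := by
      refine le_antisymm ?_ (hHfac.trans ((Nat.pow_le_pow_iff_right (by norm_num)).1 (hs ▸ hT0card)))
      rw [← Nat.prime_two.pow_dvd_iff_le_factorization Nat.card_pos.ne', ← hs]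
      exact Subgroup.card_subgroup_dvd_card T0
    let T0S : Sylow 2 H := Sylow.ofCard T0 (by rw [hs, hseq])
    have hwH2 : IsPGroup 2 (Subgroup.zpowers (⟨wC, hwH⟩ : H)) :=
      CfsgLib.TwoGroupTricks.isPGroup_zpowers ⟨1, by
        rw [pow_one, Subgroup.orderOf_mk, hwC, orderOf_conj, Subgroup.orderOf_mk]; exact hz'o⟩
    obtain ⟨Tw, hTw⟩ := hwH2.exists_le_sylow
    obtain ⟨h', hh'⟩ := MulAction.exists_smul_eq H Tw T0S
    have hxT : h' * ⟨wC, hwH⟩ * h'⁻¹ ∈ T0 := by
      show _ ∈ (T0S : Subgroup H)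
      rw [← hh', Sylow.coe_subgroup_smul]
      exact Subgroup.smul_mem_pointwise_smul _ (MulAut.conj h') _ (hTw (Subgroup.mem_zpowers _))
    set x : Y := ((h' : C) : Y) * ((gC : Y) * z' * (gC : Y)⁻¹) * ((h' : C) : Y)⁻¹ with hx
    have hxS : x ∈ (S : Subgroup Y) := hxT
    have hzx : IsConj z x := isConj_iff.2 ⟨(h' : C) * gC * g, by rw [hx, hz']; group⟩
    have hθxt : ∀ hxC : x ∈ C, θ ⟨x, hxC⟩ = θ tC := fun hxC => by
      rw [show (⟨x, hxC⟩ : C) = (h' : C) * wC * (h' : C)⁻¹ from Subtype.ext rfl, map_mul, map_mul,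
        map_inv, hθw]
      obtain ⟨k, hk⟩ := Subgroup.mem_zpowers_iff.1 (h'.2 : θ (h' : C) ∈ Subgroup.zpowers (θ tC))
      rw [← hk, ((Commute.refl (θ tC)).zpow_left k).eq, mul_inv_cancel_right]
    rcases hclass x hxS (by
      obtain ⟨g', hg'⟩ := isConj_iff.1 hzx
      rw [← hg', show g' * z * g'⁻¹ * (g' * z * g'⁻¹) = g' * (z * z) * g'⁻¹ by group, hz2, mul_one,
        mul_inv_cancel]) hθxt with e | e
    · exact absurd (e ▸ hzx) hzt
    · rwa [e] at hzx
  -- `t` is central in `S`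
  have hβt : β * t * β⁻¹ = t := by
    rcases hclass (β * t * β⁻¹) (mul_mem (mul_mem hβS htS) (inv_mem hβS))
      (by rw [show β * t * β⁻¹ * (β * t * β⁻¹) = β * (t * t) * β⁻¹ by group, ht2, mul_one, mul_inv_cancel])
      (fun hx => by
        rw [show (⟨β * t * β⁻¹, hx⟩ : C) = βC * tC * βC⁻¹ from
          Subtype.ext (by rw [Subgroup.coe_mul, Subgroup.coe_mul, Subgroup.coe_inv, htCv]),
          map_mul, map_mul, map_inv, htC, map_pow, ← conj_pow, hinv, inv_pow, inv_eq_iff_mul_eq_one,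
          ← pow_add, ← orderOf_dvd_iff_pow_eq_one, hθc, hr', ← mul_two, ← pow_succ]) with e | e
    · exact e
    · exact (hzt (hztz.trans (isConj_iff.2 ⟨β, e⟩ : IsConj t (t * z)).symm)).elim
  have htcent : ∀ s ∈ (S : Subgroup Y), s * t = t * s := by
    intro s hs
    obtain ⟨i, j, rfl⟩ := hSP s hs
    exact (((Commute.refl c).pow_pow i (2 ^ (r' + 1))).mul_left
      ((show Commute β t from mul_inv_eq_iff_eq_mul.1 hβt).pow_left j)).eq
  obtain ⟨g1, hg1⟩ := isConj_iff.1 hztz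
  obtain ⟨n, hn, hn'⟩ := S.conj_eq_normalizer_conj_of_mem_centralizer z g1⁻¹
    (Subgroup.mem_centralizer_iff.2 fun s hs => hzcent s hs)
    (by
      rw [inv_inv, hg1]
      exact Subgroup.mem_centralizer_iff.2 fun s hs => by
        rw [← mul_assoc, htcent s hs, mul_assoc, hzcent s hs, mul_assoc])
  rw [inv_inv, hg1] at hn'
  obtain ⟨γ, hγ'⟩ : ∃ γ, γ = n⁻¹ := ⟨_, rfl⟩
  have hγn : γ ∈ Subgroup.normalizer ((S : Subgroup Y) : Set Y) := hγ' ▸ inv_mem hn
  have hγz : γ * z * γ⁻¹ = t * z := by rw [hγ', inv_inv]; exact hn'.symm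
  have hγt : γ * t * γ⁻¹ = t := by
    have hmem : γ * t * γ⁻¹ ∈ (S : Subgroup Y) := (Subgroup.mem_normalizer_iff.1 hγn t).1 htS
    have hsq : γ * t * γ⁻¹ * (γ * t * γ⁻¹) = 1 := by
      rw [show γ * t * γ⁻¹ * (γ * t * γ⁻¹) = γ * (t * t) * γ⁻¹ by group, ht2, mul_one, mul_inv_cancel]
    have hcommc : γ * t * γ⁻¹ * c = c * (γ * t * γ⁻¹) := by
      have hc' : γ⁻¹ * c * γ ∈ (S : Subgroup Y) := by
        have := (Subgroup.mem_normalizer_iff.1 (inv_mem hγn) c).1 hcS
        rwa [inv_inv] at this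
      calc γ * t * γ⁻¹ * c = γ * (t * (γ⁻¹ * c * γ)) * γ⁻¹ := by group
        _ = γ * ((γ⁻¹ * c * γ) * t) * γ⁻¹ := by rw [htcent _ hc']
        _ = c * (γ * t * γ⁻¹) := by group
    obtain ⟨i, j, e⟩ := hSP _ hmem
    have e1 : θ ⟨γ * t * γ⁻¹, hSC hmem⟩ = θ cC ^ i * θ βC ^ (j % 2) := by
      rw [← hθdec]; exact congrArg θ (Subtype.ext e)
    have hθγ : ∀ hx : γ * t * γ⁻¹ ∈ C, θ ⟨γ * t * γ⁻¹, hx⟩ = θ tC := fun _ => by
      rcases Nat.mod_two_eq_zero_or_one j with hj | hj
      · rw [hj, pow_zero, mul_one] at e1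
        have hsq1 : θ cC ^ i * θ cC ^ i = 1 := by
          rw [← e1, ← map_mul, show (⟨γ * t * γ⁻¹, hSC hmem⟩ : C) * ⟨γ * t * γ⁻¹, hSC hmem⟩ = 1 from
            Subtype.ext hsq, map_one]
        by_cases hi1 : θ cC ^ i = 1
        · exfalso
          rw [hi1] at e1
          have h6 : (γ * t * γ⁻¹) • a = a := hθfix _ e1
          rw [mul_smul, mul_smul, ← eq_inv_smul_iff] at h6
          exact htfix _ h6
        · refine e1.trans ?_
          have := eq_of_isCyclic (C := Subgroup.zpowers (θ cC))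
            (x := ⟨θ cC ^ i, pow_mem (Subgroup.mem_zpowers _) _⟩)
            (y := ⟨θ tC, by rw [htC, map_pow]; exact pow_mem (Subgroup.mem_zpowers _) _⟩)
            (Subtype.ext hsq1) (fun e => hi1 (congrArg Subtype.val e))
            (Subtype.ext (by
              show θ tC * θ tC = 1
              rw [← map_mul, show tC * tC = 1 from Subtype.ext (by rw [Subgroup.coe_mul, htCv, ht2]; rfl),
                map_one]))
            (fun e => hθt a' (by rw [show θ tC = 1 from congrArg Subtype.val e]; rfl))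
          exact congrArg Subtype.val this
      · exfalso
        rw [hj, pow_one] at e1
        have e4 : θ ⟨γ * t * γ⁻¹, hSC hmem⟩ * θ cC = θ cC * θ ⟨γ * t * γ⁻¹, hSC hmem⟩ := by
          rw [← map_mul, ← map_mul]; exact congrArg θ (Subtype.ext hcommc)
        rw [e1, mul_assoc, mul_inv_eq_iff_eq_mul.1 hinv, ← mul_assoc, ← mul_assoc, mul_left_inj,
          ((Commute.refl (θ cC)).pow_right i).eq, mul_right_inj, inv_eq_iff_mul_eq_one, ← pow_two,
          ← orderOf_dvd_iff_pow_eq_one, hθc, hr'] at e4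
        have e5 : 2 ^ (r' + 2) ∣ 2 ^ 1 := by simpa using e4
        have := (Nat.pow_dvd_pow_iff_le_right (by norm_num)).1 e5
        omega
    rcases hclass _ hmem hsq hθγ with e2 | e2
    · exact e2
    · exfalso
      rw [← hγz] at e2
      have e3 : t = z := mul_left_cancel (mul_right_cancel e2)
      exact htfix a (by rw [e3]; exact hza)
  have hswap : γ * (t * z) * γ⁻¹ = z := by
    rw [show γ * (t * z) * γ⁻¹ = γ * t * γ⁻¹ * (γ * z * γ⁻¹) by group, hγt, hγz, ← mul_assoc, ht2, one_mul]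
  have hpow : ∀ i : ℕ, γ ^ (2 * i) * z * (γ ^ (2 * i))⁻¹ = z := by
    intro i
    induction i with
    | zero => simp
    | succ i ih =>
      rw [show 2 * (i + 1) = 1 + (1 + 2 * i) by ring, pow_add, pow_add, pow_one,
        show γ * (γ * γ ^ (2 * i)) * z * (γ * (γ * γ ^ (2 * i)))⁻¹ =
          γ * (γ * (γ ^ (2 * i) * z * (γ ^ (2 * i))⁻¹) * γ⁻¹) * γ⁻¹ by group, ih, hγz, hswap]
  obtain ⟨s, m, hm, hsm⟩ := Nat.exists_eq_pow_mul_and_not_dvd (orderOf_pos γ).ne' 2 (by norm_num)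
  obtain ⟨q, hq⟩ : Odd m := Nat.not_even_iff_odd.1 fun hev => hm hev.two_dvd
  have hp2 : IsPGroup 2 (Subgroup.zpowers (γ ^ m)) := by
    refine CfsgLib.TwoGroupTricks.isPGroup_zpowers ⟨s, ?_⟩
    rw [orderOf_pow, hsm, Nat.gcd_eq_right (dvd_mul_left m _), Nat.mul_div_cancel _ (by omega)]
  have hmS : γ ^ m ∈ (S : Subgroup Y) := by
    have h1 := hp2.inf_normalizer_sylow S
    have h2 : γ ^ m ∈ Subgroup.zpowers (γ ^ m) ⊓ Subgroup.normalizer ((S : Subgroup Y) : Set Y) :=
      ⟨Subgroup.mem_zpowers _, pow_mem hγn m⟩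
    exact ((SetLike.le_def.1 h1.le) h2).2
  have hfin : γ ^ m * z * (γ ^ m)⁻¹ = z := by rw [hzcent _ hmS, mul_inv_cancel_right]
  rw [hq, add_comm, pow_add, pow_one,
    show γ * γ ^ (2 * q) * z * (γ * γ ^ (2 * q))⁻¹ = γ * (γ ^ (2 * q) * z * (γ ^ (2 * q))⁻¹) * γ⁻¹ by
      group, hpow, hγz] at hfin
  exact ne_one_of_orderOf ht (mul_right_cancel (hfin.trans (one_mul z).symm))

end CfsgLib.Derangements.CyclicTimesZ
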