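import Cfsg.Agent.Lib.GW.AutTwo
import Cfsg.Agent.Lib.ClassicalLinear.Simple
import Mathlib.FieldTheory.Galois.Basic
import Mathlib.FieldTheory.Finite.GaloisField
import Mathlib.GroupTheory.IsPerfect

/-!
# Facts on `PGL₂(q)` inside the automorphism group of `PSL₂(q)`
-/

set_option autoImplicit false
set_option linter.unusedSectionVars false
set_option linter.style.haveILetI false

open Matrix
open scoped commutatorElement

namespace CfsgLib.Derangements.CyclicTimesZ

open CfsgLib.ReflectionsSpinor.PSL CfsgLib.GW CfsgLib.GW.PGLTwo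

variable {F : Type} [Field F] [Fintype F]

local notation "M₂" => Matrix (Fin 2) (Fin 2) F
local notation "GL₂" => GL (Fin 2) F
local notation "A" => toAutHom (n := 2) (F := F)
local notation "AutP" => MulAut (Matrix.ProjectiveSpecialLinearGroup (Fin 2) F)

/-- An element of `p`-power order of `PGL₂` is given by a unipotent matrix. -/
theorem unipotent_form {p : ℕ} [Fact p.Prime] [CharP F p] {g : GL₂} {k : ℕ}
    (hg : A g ^ p ^ k = 1) :
    ∃ (d : F) (N : M₂), d ≠ 0 ∧ (g : M₂) = d • (1 : M₂) + N ∧ N.trace = 0 ∧ N.det = 0 ∧ N * N = 0 := by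
  rw [← map_pow, A_eq_one_iff] at hg
  obtain ⟨c, hc0, hc⟩ := hg
  rw [Units.val_pow_eq_pow_val] at hc
  have hinj : Function.Injective fun x : F => x ^ p ^ k := fun x y hxy => by
    have h0 : (x - y) ^ p ^ k = 0 := by rw [sub_pow_char_pow, sub_eq_zero]; exact hxy
    exact sub_eq_zero.1 (pow_eq_zero_iff (pow_ne_zero _ (Fact.out : p.Prime).ne_zero) |>.1 h0)
  obtain ⟨d, hd⟩ := (Finite.injective_iff_surjective.1 hinj) c
  have hd' : d ^ p ^ k = c := hd
  set N : M₂ := (g : M₂) - d • (1 : M₂) with hN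
  have hNp : N ^ p ^ k = 0 := by
    rw [hN, sub_pow_char_pow_of_commute (p := p) (h := ((Commute.one_right (g : M₂)).smul_right d)), hc,
      smul_pow, one_pow, hd', sub_self]
  have hdet : N.det = 0 :=
    (pow_eq_zero_iff (pow_ne_zero k (Fact.out : p.Prime).ne_zero)).1
      (by rw [← Matrix.det_pow, hNp, Matrix.det_zero])
  have hdet' : N 0 0 * N 1 1 - N 0 1 * N 1 0 = 0 := by rw [← Matrix.det_fin_two]; exact hdet
  have hsq : N * N = N.trace • N := by
    rw [Matrix.trace_fin_two]
    ext i j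
    fin_cases i <;> fin_cases j <;> simp [Matrix.mul_apply, Fin.sum_univ_two] <;>
      first
        | linear_combination (-1 : F) * hdet'
        | ring
  have hpow : ∀ m : ℕ, N ^ (m + 1) = N.trace ^ m • N := by
    intro m
    induction m with
    | zero => simp
    | succ m ih => rw [pow_succ, ih, Matrix.smul_mul, hsq, smul_smul, ← pow_succ]
  have htr : N.trace = 0 := by
    obtain ⟨m, hm⟩ : ∃ m, p ^ k = m + 1 :=
      ⟨p ^ k - 1, (Nat.sub_add_cancel (Nat.one_le_pow _ _ (Fact.out : p.Prime).pos)).symm⟩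
    rw [hm, hpow, smul_eq_zero] at hNp
    rcases hNp with h | h
    · exact eq_zero_of_pow_eq_zero h
    · rw [h, Matrix.trace_zero]
  refine ⟨d, N, fun h => hc0 ?_, by rw [hN]; abel, htr, hdet, by rw [hsq, htr, zero_smul]⟩
  rw [← hd', h, zero_pow (pow_ne_zero _ (Fact.out : p.Prime).ne_zero)]

/-- `p`-elements of `PGL₂` have exponent `p`. -/
theorem pow_char_eq_one {p : ℕ} [Fact p.Prime] [CharP F p] {g : GL₂} {k : ℕ}
    (hg : A g ^ p ^ k = 1) : A g ^ p = 1 := by
  obtain ⟨d, N, hd, hgN, -, -, hNN⟩ := unipotent_form hg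
  rw [← map_pow, A_eq_one_iff, Units.val_pow_eq_pow_val, hgN]
  refine ⟨d ^ p, pow_ne_zero _ hd, ?_⟩
  obtain ⟨r, hr⟩ := Nat.exists_eq_add_of_le (Fact.out : p.Prime).two_le
  rw [add_pow_char_of_commute (p := p) (h := ((Commute.one_left N).smul_left d)), smul_pow, one_pow,
    show N ^ p = 0 by rw [hr, pow_add, pow_two, hNN, zero_mul], add_zero]

/-- In `PGL₂(q)`, `q` odd, no involution centralizes a nontrivial `p`-element. -/
theorem no_commuting (h2 : (2 : F) ≠ 0) {p : ℕ} [Fact p.Prime] [CharP F p] {h g : GL₂}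
    (hh : A h * A h = 1) (hh1 : A h ≠ 1) {k : ℕ} (hg : A g ^ p ^ k = 1)
    (hcomm : A h * A g = A g * A h) : A g = 1 := by
  obtain ⟨d, N, hd, hgN, htr, hdet, -⟩ := unipotent_form hg
  rw [← map_mul, ← map_mul, A_eq_iff] at hcomm
  obtain ⟨l, -, hl⟩ := hcomm
  have htrg : (g : M₂).trace = 2 * d := by
    rw [hgN, Matrix.trace_add, htr, Matrix.trace_smul, Matrix.trace_one, Fintype.card_fin, smul_eq_mul,
      add_zero]
    push_cast
    ring
  have hl1 : l = 1 := by
    have h3 : (g : M₂).trace = l * (g : M₂).trace := by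
      calc (g : M₂).trace = (((h⁻¹ : GL₂) : M₂) * ((h * g : GL₂) : M₂)).trace := by
            rw [← Units.val_mul, inv_mul_cancel_left]
        _ = l * (((h⁻¹ : GL₂) : M₂) * ((g * h : GL₂) : M₂)).trace := by
            rw [hl, Matrix.mul_smul, Matrix.trace_smul, smul_eq_mul]
        _ = l * (g : M₂).trace := by
            rw [Units.val_mul, ← Matrix.mul_assoc, Matrix.trace_units_conj']
    have h4 : (g : M₂).trace ≠ 0 := by rw [htrg]; exact mul_ne_zero h2 hd
    exact mul_right_cancel₀ h4 (by rw [one_mul]; exact h3.symm)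
  rw [hl1, one_smul, Units.val_mul, Units.val_mul, hgN, Matrix.mul_add, Matrix.add_mul,
    Matrix.mul_smul, Matrix.smul_mul, Matrix.mul_one, Matrix.one_mul, add_right_inj] at hl
  rw [← map_mul, A_eq_one_iff, Units.val_mul] at hh
  obtain ⟨c, -, hh⟩ := hh
  have hdH : (h : M₂).det ≠ 0 := det_ne_zero h
  rw [Matrix.det_fin_two] at hdH
  rw [Matrix.trace_fin_two] at htr
  rw [Matrix.det_fin_two] at hdet
  have a00 := congrFun (congrFun hh 0) 0
  have a01 := congrFun (congrFun hh 0) 1
  have a10 := congrFun (congrFun hh 1) 0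
  have a11 := congrFun (congrFun hh 1) 1
  simp [Matrix.mul_apply, Fin.sum_univ_two] at a00 a01 a10 a11
  have b00 := congrFun (congrFun hl 0) 0
  have b01 := congrFun (congrFun hl 0) 1
  have b10 := congrFun (congrFun hl 1) 0
  simp [Matrix.mul_apply, Fin.sum_univ_two] at b00 b01 b10
  have hf : (h : M₂) 1 1 = -(h : M₂) 0 0 := by
    by_contra hne
    have hs : (h : M₂) 0 0 + (h : M₂) 1 1 ≠ 0 := fun e => hne (by linear_combination e)
    have hb : (h : M₂) 0 1 = 0 := (mul_eq_zero.1 (show (h : M₂) 0 1 * ((h : M₂) 0 0 + (h : M₂) 1 1) = 0 by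
      linear_combination a01)).resolve_right hs
    have hc : (h : M₂) 1 0 = 0 := (mul_eq_zero.1 (show (h : M₂) 1 0 * ((h : M₂) 0 0 + (h : M₂) 1 1) = 0 by
      linear_combination a10)).resolve_right hs
    have hd' : (h : M₂) 0 0 - (h : M₂) 1 1 = 0 := (mul_eq_zero.1
      (show ((h : M₂) 0 0 - (h : M₂) 1 1) * ((h : M₂) 0 0 + (h : M₂) 1 1) = 0 by
        linear_combination a00 - a11)).resolve_right hs
    refine hh1 (A_eq_one_iff.2 ⟨(h : M₂) 0 0, fun e => hs (by linear_combination (2 : F) * e - hd'), ?_⟩)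
    ext i j
    fin_cases i <;> fin_cases j <;> simp [hb, hc]
    linear_combination -hd'
  have hM : N 1 1 = -N 0 0 := by linear_combination htr
  rw [hf] at hdH b01 b10
  rw [hM] at hdet b01 b10
  set a := (h : M₂) 0 0
  set b := (h : M₂) 0 1
  set e := (h : M₂) 1 0
  set x := N 0 0
  set y := N 0 1
  set z := N 1 0
  have hbz : b * z = e * y := by linear_combination b00
  have hay : a * y = b * x := (mul_right_injective₀ h2) (by linear_combination b01)
  have haz : a * z = e * x := (mul_right_injective₀ h2) (by linear_combination (-1 : F) * b10)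
  have hS : a * x + b * z = 0 := by
    by_cases hx : x = 0
    · by_cases hz : z = 0
      · simp [hx, hz]
      · exact (mul_eq_zero.1 (show (a * x + b * z) * z = 0 by
          linear_combination (x) * haz + (z) * hbz + (-e) * hdet)).resolve_right hz
    · exact (mul_eq_zero.1 (show (a * x + b * z) * x = 0 by
        linear_combination (-z) * hay + (-a) * hdet)).resolve_right hx
  have hD : a * a + b * e ≠ 0 := fun h0 => hdH (by linear_combination -h0)
  have hx : x = 0 := (mul_eq_zero.1 (show x * (a * a + b * e) = 0 by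
    linear_combination a * hS + (-a) * hbz + (-e) * hay)).resolve_right hD
  have hy : y = 0 := (mul_eq_zero.1 (show y * (a * a + b * e) = 0 by
    linear_combination a * hay + b * hS + (-b) * hbz)).resolve_right hD
  have hz : z = 0 := (mul_eq_zero.1 (show z * (a * a + b * e) = 0 by
    linear_combination a * haz + e * hS)).resolve_right hD
  refine A_eq_one_iff.2 ⟨d, hd, ?_⟩
  rw [hgN]
  ext i j
  fin_cases i <;> fin_cases j <;> simp [x, y, z] at * <;> simp_all

/-- A perfect subgroup of `PGL₂` lies in `PSL₂`. -/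
theorem le_inn_of_perfect (P : Subgroup AutP) (hP : P ≤ (A).range) (hperf : ⁅P, P⁆ = P) :
    P ≤ innG F := by
  rw [← hperf, Subgroup.commutator_le]
  intro x hx y hy
  obtain ⟨g, rfl⟩ := hP hx
  obtain ⟨g', rfl⟩ := hP hy
  refine mem_inn_iff.2 ⟨?_, ?_⟩
  · rw [commutatorElement_def, ← map_inv, ← map_inv, ← map_mul, ← map_mul, ← map_mul, fieldPart_A]
  · rw [commutatorElement_def, sq_mul, sq_conj, sq_inv]

/-- A subgroup containing `PSL₂` and an element of `PGL₂` outside it contains `PGL₂`. -/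
theorem range_le_of_not_inn (S : Subgroup AutP) (hI : innG F ≤ S) {x : AutP} (hxS : x ∈ S)
    (hx : x ∈ (A).range) (hxI : x ∉ innG F) : (A).range ≤ S := by
  intro y hy
  by_cases hyI : y ∈ innG F
  · exact hI hyI
  have hfx : fieldPart x = 1 := fieldPart_eq_one_iff.2 hx
  have hfy : fieldPart y = 1 := fieldPart_eq_one_iff.2 hy
  have hsx : ¬ Sq x := fun e => hxI (mem_inn_iff.2 ⟨hfx, e⟩)
  have hsy : ¬ Sq y := fun e => hyI (mem_inn_iff.2 ⟨hfy, e⟩)
  have h1 : x⁻¹ * y ∈ S := hI (mem_inn_iff.2 ⟨by rw [map_mul, map_inv, hfx, hfy, inv_one, one_mul],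
    by rw [sq_mul, sq_inv]; tauto⟩)
  have := mul_mem hxS h1
  rwa [mul_inv_cancel_left] at this

theorem card_ringAut {p e : ℕ} [Fact p.Prime] [CharP F p] (hq : Fintype.card F = p ^ e) :
    Nat.card (F ≃+* F) = e := by
  letI : Algebra (ZMod p) F := ZMod.algebra F p
  let E : (F ≃+* F) ≃ (F ≃ₐ[ZMod p] F) :=
    { toFun := fun σ => AlgEquiv.ofRingEquiv (f := σ) fun x =>
        RingHom.congr_fun (RingHom.ext_zmod ((σ : F →+* F).comp (algebraMap (ZMod p) F)) (algebraMap (ZMod p) F)) x
      invFun := fun σ => σ.toRingEquiv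
      left_inv := fun σ => RingEquiv.ext fun _ => rfl
      right_inv := fun σ => AlgEquiv.ext fun _ => rfl }
  rw [Nat.card_congr E, IsGalois.card_aut_eq_finrank]
  have h := Module.card_eq_pow_finrank (K := ZMod p) (V := F)
  rw [hq, ZMod.card] at h
  exact (Nat.pow_right_injective (Fact.out : p.Prime).two_le h).symm

noncomputable def quotCenterEquiv :
    (GL₂ ⧸ Subgroup.center GL₂) ≃* (A).range :=
  (QuotientGroup.quotientMulEquivOfEq (toAutHom_ker (n := 2) le_rfl).symm).trans
    (QuotientGroup.quotientKerEquivRange A)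

theorem isSimpleGroup_innG (h : 4 ≤ Fintype.card F) : IsSimpleGroup (innG F) := by
  haveI := CfsgLib.ClassicalLinear.isSimpleGroup_psl_fin (F := F) (n := 2) le_rfl
    (fun _ => by rw [Nat.card_eq_fintype_card]; exact h)
  have hu : ((1 : M₂) + Matrix.single 0 1 1).det = 1 := by simp [Matrix.det_fin_two, Matrix.single_apply]
  set u : GL₂ := Matrix.GeneralLinearGroup.mkOfDetNeZero _ (by rw [hu]; exact one_ne_zero) with hudef
  have huv : (u : M₂) = (1 : M₂) + Matrix.single 0 1 1 := rfl
  have hmem : A u ∈ innG F := A_mem_inn_iff.2 (by rw [huv, hu]; exact IsSquare.one)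
  have hne : A u ≠ 1 := fun e => by
    obtain ⟨c, -, hc⟩ := A_eq_one_iff.1 e
    have := congrFun (congrFun hc 0) 1
    simp [huv, Matrix.single_apply] at this
  haveI : Nontrivial (innG F) := ⟨⟨⟨A u, hmem⟩, 1, fun e => hne (congrArg Subtype.val e)⟩⟩
  exact IsSimpleGroup.isSimpleGroup_of_surjective (MonoidHom.rangeRestrict MulAut.conj)
    (MonoidHom.rangeRestrict_surjective _)

end CfsgLib.Derangements.CyclicTimesZ
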