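import Cfsg.Agent.Lib.Derangements.CyclicTimesZ.Primitive
import Cfsg.Agent.Lib.Derangements.CyclicTimesZ.Almost
import Cfsg.Agent.S0081

/-!
# Insoluble products of a cyclic group and a Z-group
-/

set_option autoImplicit false
set_option linter.style.haveILetI false

open Subgroup MulAction
open scoped commutatorElement

namespace CfsgLib.Derangements.CyclicTimesZ

open CfsgLib.ReflectionsSpinor.PSL CfsgLib.GW CfsgLib.GW.PGLTwo

universe u

variable {G : Type u} [Group G] [Finite G]

theorem RadFree.oddCore_eq_bot (h : RadFree G) : Cfsg.oddCore G = ⊥ :=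
  h _ inferInstance (Cfsg.Agent.S0205.result CfsgLib.Cores.odd_card_oddCore)

/-- The passage to the quotient by a solvable normal subgroup. -/
theorem factorization_map {H : Type u} [Group H] (φ : G →* H) (hφ : Function.Surjective φ)
    (A B : Subgroup G) [IsCyclic A] [IsZGroup B] (hAB : ∀ g : G, ∃ a ∈ A, ∃ b ∈ B, g = a * b) :
    IsCyclic (A.map φ) ∧ IsZGroup (B.map φ) ∧ ∀ h : H, ∃ a ∈ A.map φ, ∃ b ∈ B.map φ, h = a * b := by
  refine ⟨isCyclic_of_surjective (φ.subgroupMap A) (φ.subgroupMap_surjective A),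
    IsZGroup.of_surjective (φ.subgroupMap_surjective B), fun h => ?_⟩
  obtain ⟨g, rfl⟩ := hφ h
  obtain ⟨a, ha, b, hb, rfl⟩ := hAB g
  exact ⟨_, ⟨a, ha, rfl⟩, _, ⟨b, hb, rfl⟩, map_mul φ a b⟩

/-- When the group over a maximal subgroup containing `B` is soluble there is a contradiction:
a perfect normal `PSL₂(p)` would have automorphism group inside the maximal subgroup. -/
theorem soluble_top_false (hrad : RadFree G) (M : Subgroup G) (hM : M ≠ ⊤) (Q : Subgroup G)
    [Q.Normal] (hQM : Q ≤ M) (hperf : ⁅Q, Q⁆ = Q) (hQne : Q ≠ ⊥) (hsol : Group.IsSolvable (G ⧸ Q))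
    (R : Subgroup M) [R.Normal] [Group.IsSolvable R] (h : IsPGLTwo (M ⧸ R)) : False := by
  classical
  obtain ⟨F, iF, iT, hp, hp3, ⟨e⟩⟩ := h
  haveI := hsol
  -- the centralizer of `Q` is trivial
  have hQrad := hrad.normal Q
  have hZ : ∀ x ∈ Q, (∀ y ∈ Q, y * x = x * y) → x = 1 := fun x hx hc => by
    haveI : Group.IsSolvable (Subgroup.center Q) :=
      isSolvable_of_comm fun a b => Subtype.ext (Subgroup.mem_center_iff.1 b.2 a)
    have h1 := hQrad (Subgroup.center Q) inferInstance inferInstance
    have h2 : (⟨x, hx⟩ : Q) ∈ Subgroup.center Q :=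
      Subgroup.mem_center_iff.2 fun y => Subtype.ext (hc y y.2)
    rw [h1, Subgroup.mem_bot] at h2
    exact congrArg Subtype.val h2
  have hC : Subgroup.centralizer (Q : Set G) = ⊥ := by
    refine hrad _ inferInstance ?_
    let f : Subgroup.centralizer (Q : Set G) →* G ⧸ Q :=
      (QuotientGroup.mk' Q).comp (Subgroup.centralizer (Q : Set G)).subtype
    refine solvable_of_solvable_injective (f := f) ?_
    rw [injective_iff_map_eq_one]
    intro x hx
    have hxQ : (x : G) ∈ Q := (QuotientGroup.eq_one_iff _).1 hx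
    exact Subtype.ext (hZ x hxQ fun y hy => Subgroup.mem_centralizer_iff.1 x.2 y hy)
  -- the radical of `M` is trivial
  set Q' := Q.subgroupOf M with hQ'
  have hQR : ∀ x ∈ Q', x ∈ R → x = 1 := by
    let T : Subgroup Q := (R.map M.subtype).subgroupOf Q
    have hTn : T.Normal := ⟨fun t ht g => by
      obtain ⟨r, hr, hrt⟩ := ht
      refine ⟨⟨(g : G), hQM g.2⟩ * r * ⟨(g : G), hQM g.2⟩⁻¹, (inferInstance : R.Normal).conj_mem r hr _, ?_⟩
      show ((g : G) * (r : G) * (g : G)⁻¹) = _
      rw [show (r : G) = (t : G) from hrt]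
      rfl⟩
    haveI : Group.IsSolvable (R.map M.subtype) :=
      solvable_of_surjective (f := M.subtype.subgroupMap R) (MonoidHom.subgroupMap_surjective _ R)
    have hTs : Group.IsSolvable T := by
      refine solvable_of_solvable_injective (f := Q.subtype.subgroupComap (R.map M.subtype)) ?_
      exact fun x y hxy => Subtype.ext (Subtype.ext (congrArg Subtype.val hxy :))
    have hT := hQrad T hTn hTs
    intro x hx hxR
    have h2 : (⟨(x : G), hx⟩ : Q) ∈ T := ⟨x, hxR, rfl⟩
    rw [hT, Subgroup.mem_bot] at h2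
    exact Subtype.ext (congrArg Subtype.val h2 :)
  have hR : R = ⊥ := by
    rw [Subgroup.eq_bot_iff_forall]
    intro r hr
    have h1 : (r : G) ∈ Subgroup.centralizer (Q : Set G) := by
      rw [Subgroup.mem_centralizer_iff]
      intro q hq
      have h2 := hQR (⟨q, hQM hq⟩ * r * ⟨q, hQM hq⟩⁻¹ * r⁻¹) (by
        show q * (r : G) * q⁻¹ * (r : G)⁻¹ ∈ Q
        rw [show q * (r : G) * q⁻¹ * (r : G)⁻¹ = q * ((r : G) * q⁻¹ * (r : G)⁻¹) by group]
        exact mul_mem hq ((inferInstance : Q.Normal).conj_mem _ (inv_mem hq) _))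
        (mul_mem ((inferInstance : R.Normal).conj_mem r hr _) (inv_mem hr))
      have h3 : q * (r : G) * q⁻¹ * (r : G)⁻¹ = 1 := congrArg Subtype.val h2
      rw [mul_inv_eq_one, mul_inv_eq_iff_eq_mul] at h3
      exact h3
    rw [hC, Subgroup.mem_bot] at h1
    exact Subtype.ext h1
  -- `M` is `PGL₂(p)` and `Q` its socle
  let ψ : M ≃* (toAutHom (n := 2) (F := F)).range :=
    (QuotientGroup.quotientBot.symm.trans (QuotientGroup.quotientMulEquivOfEq hR.symm)).trans e
  let ι : M →* MulAut (Matrix.ProjectiveSpecialLinearGroup (Fin 2) F) :=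
    (Subgroup.subtype _).comp ψ.toMonoidHom
  have hι : Function.Injective ι := (Subgroup.subtype_injective _).comp ψ.injective
  set P := Q'.map ι with hP
  have hPle : P ≤ (toAutHom (n := 2) (F := F)).range := by
    rintro _ ⟨x, -, rfl⟩
    exact (ψ x).2
  have hQ'perf : ⁅Q', Q'⁆ = Q' := by
    apply Subgroup.map_injective M.subtype_injective
    rw [Subgroup.map_commutator, hQ', Subgroup.map_subgroupOf_eq_of_le hQM, hperf]
  have hPI : P ≤ innG F := le_inn_of_perfect P hPle (by rw [hP, ← Subgroup.map_commutator, hQ'perf])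
  haveI := isSimpleGroup_innG (F := F) (by omega)
  have hPeq : P = innG F := by
    have hn : (P.subgroupOf (innG F)).Normal := ⟨fun y hy g => by
      obtain ⟨x, hx, hxy⟩ := (hy : (y : MulAut _) ∈ P)
      obtain ⟨m, hm⟩ := ψ.surjective ⟨(g : MulAut _), fieldPart_eq_one_iff.1 (mem_inn_iff.1 g.2).1⟩
      refine ⟨m * x * m⁻¹, (inferInstance : Q'.Normal).conj_mem x hx m, ?_⟩
      have hm' : ι m = g := congrArg Subtype.val hm
      rw [map_mul, map_mul, map_inv, hm', hxy]
      rfl⟩
    rcases IsSimpleGroup.eq_bot_or_eq_top_of_normal _ hn with h | h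
    · exfalso
      apply hQne
      rw [Subgroup.subgroupOf_eq_bot, disjoint_iff, inf_of_le_left hPI] at h
      rw [hP, Subgroup.map_eq_bot_iff_of_injective _ hι, hQ', Subgroup.subgroupOf_eq_bot] at h
      rwa [disjoint_iff, inf_of_le_left hQM] at h
    · exact le_antisymm hPI (Subgroup.subgroupOf_eq_top.1 h)
  haveI := CfsgLib.ClassicalLinear.isSimpleGroup_psl_fin (F := F) (n := 2) le_rfl
    (fun _ => by rw [Nat.card_eq_fintype_card]; omega)
  have hinj : Function.Injective (MulAut.conj : _ →* MulAut (Matrix.ProjectiveSpecialLinearGroup (Fin 2) F)) := by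
    rw [← MonoidHom.ker_eq_bot_iff]
    refine (IsSimpleGroup.eq_bot_or_eq_top_of_normal _ (MonoidHom.normal_ker _)).resolve_right fun h => ?_
    have : Subsingleton (innG F) := ⟨fun x y => Subtype.ext (by
      obtain ⟨a, ha⟩ := x.2
      obtain ⟨b, hb⟩ := y.2
      rw [← ha, ← hb, MonoidHom.mem_ker.1 (h ▸ Subgroup.mem_top a : a ∈ MonoidHom.ker MulAut.conj),
        MonoidHom.mem_ker.1 (h ▸ Subgroup.mem_top b : b ∈ MonoidHom.ker MulAut.conj)])⟩
    exact not_subsingleton (innG F) this
  let eQ : Q ≃* Matrix.ProjectiveSpecialLinearGroup (Fin 2) F :=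
    ((Subgroup.subgroupOfEquivOfLe hQM).symm.trans
      ((Q'.equivMapOfInjective ι hι).trans (MulEquiv.subgroupCongr hPeq))).trans
      (MonoidHom.ofInjective hinj).symm
  -- so the group embeds into `PGL₂(p)`
  let χ : G →* MulAut (Matrix.ProjectiveSpecialLinearGroup (Fin 2) F) :=
    (MulAut.congr eQ).toMonoidHom.comp (MulAut.conjNormal (H := Q))
  have hχ : Function.Injective χ := by
    refine (MulAut.congr eQ).injective.comp ?_
    rw [injective_iff_map_eq_one]
    intro g hg
    have : g ∈ Subgroup.centralizer (Q : Set G) := by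
      rw [Subgroup.mem_centralizer_iff]
      intro a ha
      have h := congrArg Subtype.val (DFunLike.congr_fun hg ⟨a, ha⟩)
      rw [MulAut.conjNormal_apply] at h
      exact (mul_inv_eq_iff_eq_mul.1 h).symm
    rwa [hC, Subgroup.mem_bot] at this
  have hle : Nat.card G ≤ Nat.card M := by
    rw [Nat.card_congr ψ.toEquiv]
    exact Nat.card_le_card_of_injective (fun g => (⟨χ g, fieldPart_eq_one_iff.1
      (ringAut_eq_one_of_prime hp _)⟩ : (toAutHom (n := 2) (F := F)).range))
      fun x y hxy => hχ (congrArg Subtype.val hxy)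
  exact hM (Subgroup.eq_top_of_le_card M hle)

/-- Elements of a 2-group that are squares lie in the Frattini subgroup. -/
theorem sq_mem_frattini {P : Type*} [Group P] [Finite P] (hP : IsPGroup 2 P) (x : P) :
    x * x ∈ frattini P := by
  haveI := hP.isNilpotent
  haveI : Fact (Nat.Prime 2) := ⟨Nat.prime_two⟩
  simp only [frattini, Order.radical, Subgroup.mem_iInf]
  intro M hM
  haveI : M.Normal :=
    Group.normalizerCondition_of_isNilpotent.normal_of_coatom M hM
  have hidx : M.index = 2 := by
    obtain ⟨k, hk⟩ := IsPGroup.iff_card.1 hP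
    haveI : Nontrivial (P ⧸ M) := QuotientGroup.nontrivial_iff.2 hM.1
    haveI : IsSimpleGroup (P ⧸ M) := ⟨fun N hN => by
      rcases hM.le_iff.1 (show M ≤ N.comap (QuotientGroup.mk' M) from fun y hy => by
        show QuotientGroup.mk' M y ∈ N
        rw [show QuotientGroup.mk' M y = 1 from (QuotientGroup.eq_one_iff y).2 hy]
        exact one_mem N) with h | h
      · right
        rw [Subgroup.eq_top_iff']
        intro y
        obtain ⟨z, rfl⟩ := QuotientGroup.mk'_surjective M y
        exact (h ▸ Subgroup.mem_top z : z ∈ N.comap _)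
      · left
        rw [Subgroup.eq_bot_iff_forall]
        intro y hy
        obtain ⟨z, rfl⟩ := QuotientGroup.mk'_surjective M y
        exact (QuotientGroup.eq_one_iff z).2 (h ▸ hy : z ∈ M)⟩
    haveI : Nontrivial (Subgroup.center (P ⧸ M)) := (hP.to_quotient M).center_nontrivial
    have htop : Subgroup.center (P ⧸ M) = ⊤ :=
      (IsSimpleGroup.eq_bot_or_eq_top_of_normal _ inferInstance).resolve_left
        ((Subgroup.nontrivial_iff_ne_bot _).1 inferInstance)
    letI : CommGroup (P ⧸ M) := { (inferInstance : Group (P ⧸ M)) with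
      mul_comm := fun a b => Subgroup.mem_center_iff.1 (htop ▸ Subgroup.mem_top b) a }
    have hprime : (Nat.card (P ⧸ M)).Prime := IsSimpleGroup.prime_card
    obtain ⟨j, hj⟩ := IsPGroup.iff_card.1 (hP.to_quotient M)
    rw [Subgroup.index_eq_card, hj]
    rw [hj] at hprime
    rw [Nat.Prime.eq_one_of_pow hprime, pow_one]
  exact Subgroup.mul_self_mem_of_index_two hidx x

end CfsgLib.Derangements.CyclicTimesZ
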