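import Cfsg.Agent.Lib.Derangements.CyclicTimesZ.Solvable
import Cfsg.Agent.Lib.GWApps.GenDihedralMain

/-!
# Sylow 2-subgroups of a doubly transitive group with Z-group stabilizer
-/

set_option autoImplicit false
set_option linter.style.haveILetI false

open Subgroup MulAction

namespace CfsgLib.Derangements.CyclicTimesZ

universe u

variable {Y : Type u} [Group Y] [Finite Y] {Ω : Type u} [MulAction Y Ω] [Finite Ω]
  [FaithfulSMul Y Ω] {a : Ω}

/-- The cyclic group generated by `g` acts semiregularly. -/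
def Semireg (Ω : Type u) [MulAction Y Ω] (g : Y) : Prop :=
  ∀ k ∈ Subgroup.zpowers g, ∀ x : Ω, k • x = x → k = 1

omit [Finite Y] [Finite Ω] [FaithfulSMul Y Ω] in
theorem Semireg.conj {g : Y} (hg : Semireg Ω g) (t : Y) : Semireg Ω (t * g * t⁻¹) := by
  intro k hk x hx
  obtain ⟨i, rfl⟩ := Subgroup.mem_zpowers_iff.1 hk
  rw [conj_zpow, mul_smul, mul_smul, ← eq_inv_smul_iff] at hx
  rw [conj_zpow, hg _ (zpow_mem (Subgroup.mem_zpowers g) i) _ hx, mul_one, mul_inv_cancel]

theorem Hyp.card_factorization (h : Hyp Y a) :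
    (Nat.card Y).factorization 2 =
      (Nat.card Ω).factorization 2 + (Nat.card (stabilizer Y a)).factorization 2 := by
  haveI := h.pretransitive
  rw [← Subgroup.card_mul_index (stabilizer Y a), MulAction.index_stabilizer_of_transitive Y a,
    Nat.factorization_mul Nat.card_pos.ne' ?_, Finsupp.add_apply, add_comm]
  haveI : Nonempty Ω := ⟨a⟩
  exact Nat.card_pos.ne'

/-- A Sylow 2-subgroup is generated by a semiregular cyclic group and a cyclic group fixing `a`. -/
theorem Hyp.exists_sylow (h : Hyp Y a) (S : Sylow 2 Y) :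
    ∃ α ∈ (S : Subgroup Y), orderOf α = 2 ^ (Nat.card Ω).factorization 2 ∧ Semireg Ω α := by
  haveI : Fact (Nat.Prime 2) := ⟨Nat.prime_two⟩
  obtain ⟨c, hc, hcs⟩ := h.semi
  obtain ⟨T, hT⟩ := (CfsgLib.TwoGroupTricks.isPGroup_zpowers (p := 2) (x := c)
    ⟨_, hc⟩).exists_le_sylow
  obtain ⟨g, hg⟩ := MulAction.exists_smul_eq Y T S
  refine ⟨g * c * g⁻¹, ?_, by rw [orderOf_conj, hc], Semireg.conj hcs g⟩
  rw [← hg, Sylow.coe_subgroup_smul]
  exact Subgroup.smul_mem_pointwise_smul _ (MulAut.conj g) _ (hT (Subgroup.mem_zpowers c))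

/-- When the stabilizer has 2-part two: an involution fixing a point and normalizing a maximal
semiregular cyclic 2-subgroup of order at least four inverts it, there are two classes of
involutions and Sylow 2-subgroups are dihedral. -/
theorem Hyp.pair_inverts (h : Hyp Y a) (hns : ¬ Group.IsSolvable Y) (hn : Even (Nat.card Ω))
    (hb : (Nat.card (stabilizer Y a)).factorization 2 = 1) {r : ℕ} (hr : 2 ≤ r)
    (hv : (Nat.card Ω).factorization 2 = r) {β c : Y} {x₀ : Ω} (hβ : orderOf β = 2)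
    (hβx : β • x₀ = x₀) (hc : orderOf c = 2 ^ r) (hcs : Semireg Ω c)
    (hnorm : β * c * β⁻¹ ∈ Subgroup.zpowers c) :
    β * c * β⁻¹ = c⁻¹ ∧ (∀ w : Y, orderOf w = 2 → IsConj β w ∨ IsConj (c ^ 2 ^ (r - 1)) w) ∧
      CfsgLib.GW.HasDihedralSylow Y := by
  haveI : Fact (Nat.Prime 2) := ⟨Nat.prime_two⟩
  have hβn : β ∉ Subgroup.zpowers c := fun hh => ne_one_of_orderOf hβ (hcs β hh x₀ hβx)
  have hnormal : Subgroup.zpowers β ≤ Subgroup.normalizer (Subgroup.zpowers c : Set Y) := by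
    rw [Subgroup.zpowers_le]
    rw [Subgroup.mem_normalizer_iff]
    have hfwd : ∀ k ∈ Subgroup.zpowers c, β * k * β⁻¹ ∈ Subgroup.zpowers c := by
      intro k hk
      obtain ⟨i, rfl⟩ := Subgroup.mem_zpowers_iff.1 hk
      rw [← conj_zpow]
      exact zpow_mem hnorm i
    intro k
    refine ⟨hfwd k, fun hk => ?_⟩
    have := hfwd _ hk
    rwa [show β * (β * k * β⁻¹) * β⁻¹ = (β * β) * k * (β * β)⁻¹ by group, mul_self_of_orderOf hβ,
      one_mul, inv_one, mul_one] at this
  have hpc : IsPGroup 2 (Subgroup.zpowers c) := CfsgLib.TwoGroupTricks.isPGroup_zpowers ⟨_, hc⟩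
  have hpβ : IsPGroup 2 (Subgroup.zpowers β) :=
    CfsgLib.TwoGroupTricks.isPGroup_zpowers ⟨1, by rw [pow_one]; exact hβ⟩
  obtain ⟨S, hS⟩ := (hpc.to_sup_of_normal_left' hpβ hnormal).exists_le_sylow
  have hcS : c ∈ (S : Subgroup Y) := hS (Subgroup.mem_sup_left (Subgroup.mem_zpowers c))
  have hβS : β ∈ (S : Subgroup Y) := hS (Subgroup.mem_sup_right (Subgroup.mem_zpowers β))
  have hcard : Nat.card (S : Subgroup Y) = 2 ^ (r + 1) := by
    rw [S.card_eq_multiplicity, h.card_factorization, hv, hb]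
  have hne : ¬ IsConj β (c ^ 2 ^ (r - 1)) := fun hh => by
    obtain ⟨g, hg⟩ := isConj_iff.1 hh
    have hfix : c ^ 2 ^ (r - 1) • g • x₀ = g • x₀ := by
      rw [← hg, mul_smul, inv_smul_smul, mul_smul, hβx]
    have h1 := hcs _ (pow_mem (Subgroup.mem_zpowers c) _) _ hfix
    rw [← orderOf_dvd_iff_pow_eq_one, hc] at h1
    have := (Nat.pow_dvd_pow_iff_le_right (by norm_num)).1 h1
    omega
  obtain ⟨hinv, hcl⟩ := index_two_inverts (h.no_isolated hns hn) S hcS hβS
    (mul_self_of_orderOf hβ) hβn hr hc hcard hne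
  exact ⟨hinv, hcl, hasDihedralSylow_of_inverts S hcS hβS (mul_self_of_orderOf hβ) hβn
    (by omega) hc hcard hinv⟩

/-- A Sylow 2-subgroup containing a given 2-element of the stabilizer, and a normalized
semiregular subgroup when the stabilizer has 2-part two. -/
theorem Hyp.exists_pair (h : Hyp Y a) (hb : (Nat.card (stabilizer Y a)).factorization 2 = 1) :
    ∃ β α : Y, orderOf β = 2 ∧ β • a = a ∧ orderOf α = 2 ^ (Nat.card Ω).factorization 2 ∧
      Semireg Ω α ∧ β * α * β⁻¹ ∈ Subgroup.zpowers α := by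
  haveI : Fact (Nat.Prime 2) := ⟨Nat.prime_two⟩
  obtain ⟨βB, hβB⟩ := exists_prime_orderOf_dvd_card' (G := stabilizer Y a) 2
    (Nat.dvd_of_factorization_pos (by omega))
  have hβ : orderOf (βB : Y) = 2 := by rw [Subgroup.orderOf_coe]; exact hβB
  obtain ⟨S, hS⟩ := (CfsgLib.TwoGroupTricks.isPGroup_zpowers (p := 2) (x := (βB : Y))
    ⟨1, by rw [pow_one]; exact hβ⟩).exists_le_sylow
  obtain ⟨α, hαS, hα, hαs⟩ := h.exists_sylow S
  refine ⟨βB, α, hβ, βB.2, hα, hαs, ?_⟩
  set P := (Subgroup.zpowers α).subgroupOf (S : Subgroup Y) with hP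
  have hidx : P.index = 2 := by
    have h1 := Subgroup.card_mul_index P
    rw [Nat.card_congr (Subgroup.subgroupOfEquivOfLe (Subgroup.zpowers_le.2 hαS)).toEquiv,
      Nat.card_zpowers, hα, S.card_eq_multiplicity, h.card_factorization, hb, pow_succ] at h1
    exact Nat.eq_of_mul_eq_mul_left (by positivity) h1
  haveI := Subgroup.normal_of_index_eq_two hidx
  exact (inferInstance : P.Normal).conj_mem ⟨α, hαS⟩ (Subgroup.mem_zpowers α) ⟨βB, hS (Subgroup.mem_zpowers _)⟩

theorem Hyp.stab_two_pos (h : Hyp Y a) (hns : ¬ Group.IsSolvable Y) :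
    (Nat.card (stabilizer Y a)).factorization 2 ≠ 0 := by
  haveI : Fact (Nat.Prime 2) := ⟨Nat.prime_two⟩
  intro hb
  obtain ⟨S⟩ : Nonempty (Sylow 2 Y) := inferInstance
  obtain ⟨α, hαS, hα, -⟩ := h.exists_sylow S
  refine hns (CfsgLib.GWApps.GenDihedral.isSolvable_of_cyclic_sylow S ?_)
  rw [← Subgroup.eq_of_le_of_card_ge (Subgroup.zpowers_le.2 hαS) (by
    rw [Nat.card_zpowers, hα, S.card_eq_multiplicity, h.card_factorization, hb, add_zero])]
  infer_instance

end CfsgLib.Derangements.CyclicTimesZ
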