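import Mathlib.GroupTheory.Solvable
import Mathlib.GroupTheory.SpecificGroups.Cyclic
import Mathlib.GroupTheory.GroupAction.Quotient
import Mathlib.Data.Set.Finite.Lemmas
import Mathlib.Data.SetLike.Fintype
import Mathlib.Data.Finite.Set
import Mathlib.Algebra.Group.Subgroup.Finite

/-!
# The largest solvable normal subgroup
-/

set_option autoImplicit false
set_option linter.style.haveILetI false

namespace CfsgLib.Derangements.CyclicTimesZ

variable {G : Type*} [Group G]

/-- No nontrivial solvable normal subgroup. -/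
def RadFree (G : Type*) [Group G] : Prop :=
  ∀ N : Subgroup G, N.Normal → Group.IsSolvable N → N = ⊥

theorem isSolvable_sup_of_normal (R N : Subgroup G) [R.Normal] [Group.IsSolvable R]
    [Group.IsSolvable N] : Group.IsSolvable (R ⊔ N : Subgroup G) := by
  let f : (R ⊔ N : Subgroup G) →* G ⧸ R := (QuotientGroup.mk' R).comp (R ⊔ N).subtype
  have hrange : f.range ≤ N.map (QuotientGroup.mk' R) := by
    rintro _ ⟨⟨x, hx⟩, rfl⟩
    obtain ⟨r, hr, n, hn, rfl⟩ := Subgroup.mem_sup_of_normal_left.1 hx
    refine ⟨n, hn, ?_⟩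
    show QuotientGroup.mk' R n = QuotientGroup.mk' R (r * n)
    rw [map_mul, show QuotientGroup.mk' R r = 1 from (QuotientGroup.eq_one_iff r).2 hr, one_mul]
  haveI : Group.IsSolvable (N.map (QuotientGroup.mk' R)) :=
    solvable_of_surjective (f := (QuotientGroup.mk' R).subgroupMap N) (MonoidHom.subgroupMap_surjective _ N)
  exact solvable_of_ker_le_range (Subgroup.inclusion (le_sup_left : R ≤ R ⊔ N))
    (f.codRestrict (N.map (QuotientGroup.mk' R)) fun x => hrange ⟨x, rfl⟩) fun x hx =>
      ⟨⟨x, (QuotientGroup.eq_one_iff _).1 (congrArg Subtype.val hx)⟩, Subtype.ext rfl⟩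

theorem exists_radical (G : Type*) [Group G] [Finite G] :
    ∃ R : Subgroup G, R.Normal ∧ Group.IsSolvable R ∧
      ∀ N : Subgroup G, N.Normal → Group.IsSolvable N → N ≤ R := by
  obtain ⟨R, hR, hmax⟩ := Set.exists_max_image {N : Subgroup G | N.Normal ∧ Group.IsSolvable N}
    (fun N => Nat.card N) (Set.toFinite _) ⟨⊥, inferInstance, inferInstance⟩
  refine ⟨R, hR.1, hR.2, fun N hN hs => ?_⟩
  haveI := hR.1
  haveI := hR.2
  haveI := hN
  haveI := hs
  have := Subgroup.eq_of_le_of_card_ge (le_sup_left : R ≤ R ⊔ N)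
    (hmax _ ⟨inferInstance, isSolvable_sup_of_normal R N⟩)
  rw [this]
  exact le_sup_right

theorem radFree_quotient [Finite G] (R : Subgroup G) [R.Normal] [Group.IsSolvable R]
    (hmax : ∀ N : Subgroup G, N.Normal → Group.IsSolvable N → N ≤ R) : RadFree (G ⧸ R) := by
  intro T hT hs
  have hle : T.comap (QuotientGroup.mk' R) ≤ R := by
    haveI := hT
    haveI := hs
    refine hmax _ inferInstance ?_
    have hR : R ≤ T.comap (QuotientGroup.mk' R) := fun x hx => by
      show QuotientGroup.mk' R x ∈ T
      rw [show QuotientGroup.mk' R x = 1 from (QuotientGroup.eq_one_iff x).2 hx]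
      exact one_mem T
    exact solvable_of_ker_le_range (Subgroup.inclusion hR)
      ((QuotientGroup.mk' R).subgroupComap T) fun x hx =>
        ⟨⟨x, (QuotientGroup.eq_one_iff _).1 (congrArg Subtype.val hx)⟩, Subtype.ext rfl⟩
  rw [Subgroup.eq_bot_iff_forall]
  intro x hx
  obtain ⟨g, rfl⟩ := QuotientGroup.mk'_surjective R x
  exact (QuotientGroup.eq_one_iff g).2 (hle hx)

/-- A normal subgroup of a group without solvable normal subgroups has none either. -/
theorem RadFree.normal [Finite G] (h : RadFree G) (Q : Subgroup G) [Q.Normal] : RadFree Q := by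
  intro N hN hs
  obtain ⟨R, hRn, hRs, hmax⟩ := exists_radical Q
  have hinv : ∀ g : G, R.map (MulAut.conjNormal g : MulAut Q).toMonoidHom ≤ R := fun g => by
    haveI := hRn
    haveI := hRs
    exact hmax _ (hRn.map _ (MulAut.conjNormal g : MulAut Q).surjective)
      (solvable_of_surjective (f := (MulAut.conjNormal g : MulAut Q).toMonoidHom.subgroupMap R)
        (MonoidHom.subgroupMap_surjective _ R))
  have hnorm : (R.map Q.subtype).Normal := ⟨by
    rintro _ ⟨r, hr, rfl⟩ g
    exact ⟨_, hinv g ⟨r, hr, rfl⟩, by simp [MulAut.conjNormal_apply]⟩⟩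
  haveI := hRs
  have hbot := h _ hnorm (solvable_of_surjective (f := Q.subtype.subgroupMap R)
    (MonoidHom.subgroupMap_surjective _ R))
  rw [Subgroup.map_eq_bot_iff_of_injective _ Q.subtype_injective] at hbot
  exact le_bot_iff.1 (hbot ▸ hmax N hN hs)

end CfsgLib.Derangements.CyclicTimesZ
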