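import Cfsg.Agent.Lib.Derangements.CyclicTimesZ.TwoTrans
import Cfsg.Agent.Lib.Derangements.CyclicTimesZ.Radical
import Cfsg.Agent.S3559
import Cfsg.Agent.S3972

/-!
# Insoluble primitive groups with a transitive cyclic subgroup and Z-group stabilizer
-/

set_option autoImplicit false
set_option linter.style.haveILetI false

open Subgroup MulAction

namespace CfsgLib.Derangements.CyclicTimesZ

universe u

variable {X : Type u} [Group X] [Finite X] {Ω : Type u} [MulAction X Ω] [Finite Ω]
  [FaithfulSMul X Ω]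

omit [Finite X] [Finite Ω] in
theorem stabilizer_eq_bot_of_comm (A : Subgroup X) [IsMulCommutative A] [IsPretransitive A Ω] (x : Ω) :
    stabilizer A x = ⊥ := by
  rw [Subgroup.eq_bot_iff_forall]
  intro g hg
  refine Subtype.ext (eq_of_smul_eq_smul (α := Ω) fun y => ?_)
  obtain ⟨t, rfl⟩ := exists_smul_eq A x y
  rw [OneMemClass.coe_one, one_smul]
  show g • t • x = t • x
  rw [← mul_smul, mul_comm' g t, mul_smul, hg]

/-- The setting after factoring the kernel. -/
theorem primitive_case (hns : ¬ Group.IsSolvable X) [IsPreprimitive X Ω] (A : Subgroup X)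
    [IsCyclic A] [IsPretransitive A Ω] (a : Ω) (hzg : IsZGroup (stabilizer X a)) :
    Even (Nat.card Ω) ∧ Hyp X a ∧ CfsgLib.GW.HasDihedralSylow X ∧
      (Nat.card A = Nat.card Ω) ∧ (∀ x : Ω, stabilizer A x = ⊥) ∧
      ∃ S : Subgroup X, S.index = 2 := by
  classical
  haveI : Fact (Nat.Prime 2) := ⟨Nat.prime_two⟩
  haveI : Nonempty Ω := ⟨a⟩
  haveI : IsMulCommutative A := IsCyclic.isMulCommutative
  have hreg : ∀ x : Ω, stabilizer A x = ⊥ := fun x => stabilizer_eq_bot_of_comm A x
  have hcard : Nat.card A = Nat.card Ω := CfsgLib.PermGroups.card_eq_of_regular A (hreg a)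
  have h5 : 4 < Nat.card Ω := by
    by_contra hle
    exact hns (isSolvable_of_card_le_four (Y := X) (Ω := Ω) (by omega))
  obtain ⟨g, hg⟩ := IsCyclic.exists_generator (α := A)
  have hgo : orderOf g = Nat.card Ω := by rw [orderOf_eq_card_of_forall_mem_zpowers hg, hcard]
  have hgx : orderOf (g : X) = Nat.card Ω := by rw [Subgroup.orderOf_coe, hgo]
  have hev : Even (Nat.card Ω) := by
    by_contra hodd
    rw [Nat.not_even_iff_odd] at hodd
    obtain ⟨Q⟩ : Nonempty (Sylow 2 (stabilizer X a)) := inferInstance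
    haveI : IsCyclic (Q : Subgroup (stabilizer X a)) := hzg.isZGroup 2 Nat.prime_two Q
    obtain ⟨S, hS⟩ := (Q.isPGroup'.map (stabilizer X a).subtype).exists_le_sylow
    haveI : IsPretransitive X Ω := IsPreprimitive.toIsPretransitive
    have heq : (Q : Subgroup (stabilizer X a)).map (stabilizer X a).subtype = (S : Subgroup X) :=
      Subgroup.eq_of_le_of_card_ge hS (by
        rw [Subgroup.card_map_of_injective (stabilizer X a).subtype_injective, Q.card_eq_multiplicity,
          S.card_eq_multiplicity, ← Subgroup.card_mul_index (stabilizer X a),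
          MulAction.index_stabilizer_of_transitive X a,
          Nat.factorization_mul Nat.card_pos.ne' Nat.card_pos.ne', Finsupp.add_apply,
          Nat.factorization_eq_zero_of_not_dvd (n := Nat.card Ω) (p := 2)
            (fun h => by rw [Nat.odd_iff] at hodd; omega), add_zero])
    let e := ((Q : Subgroup (stabilizer X a)).equivMapOfInjective _
      (stabilizer X a).subtype_injective).trans (MulEquiv.subgroupCongr heq)
    exact hns (CfsgLib.GWApps.GenDihedral.isSolvable_of_cyclic_sylow S
      (isCyclic_of_surjective e.toMonoidHom e.surjective))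
  have h2 : IsMultiplyPretransitive X Ω 2 := by
    haveI : IsPretransitive X Ω := IsPreprimitive.toIsPretransitive
    by_contra h2
    by_cases hpp : IsPrimePow (Nat.card Ω)
    · obtain ⟨p, m, hp, hm, hpm⟩ := hpp
      rw [← Nat.prime_iff] at hp
      obtain rfl : p = 2 := by
        have h2d : 2 ∣ p ^ m := hpm ▸ hev.two_dvd
        exact ((Nat.prime_dvd_prime_iff_eq Nat.prime_two hp).1 (Nat.prime_two.dvd_of_dvd_pow h2d)).symm
      have hm2 : 2 ≤ m := by
        by_contra hlt
        obtain rfl : m = 1 := by omega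
        omega
      haveI := Fintype.ofFinite Ω
      set G' := (MulAction.toPermHom X Ω).range with hG'
      have hG'2 : ¬ IsMultiplyPretransitive G' Ω 2 := fun h => h2 <| by
        rw [MulAction.is_two_pretransitive_iff] at h ⊢
        intro p q r s hpq hrs
        obtain ⟨⟨_, x, rfl⟩, h1, h1'⟩ := h hpq hrs
        exact ⟨x, h1, h1'⟩
      have htr : IsPretransitive G' Ω := ⟨fun p q => by
        obtain ⟨x, hx⟩ := exists_smul_eq X p q
        exact ⟨⟨_, x, rfl⟩, hx⟩⟩
      have ho : orderOf (⟨_, (g : X), rfl⟩ : G') = 2 ^ m := by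
        rw [← Subgroup.orderOf_coe, hpm, ← hgx]
        exact orderOf_injective _ MulAction.toPerm_injective (g : X)
      refine (Cfsg.Agent.S3972.result 2 m Nat.prime_two hm2 (by rw [← Nat.card_eq_fintype_card, hpm]) G'
        htr hG'2 _ ho).1 ?_
      let f : Ω →ₑ[(MulAction.toPermHom X Ω).rangeRestrict] Ω :=
        { toFun := id
          map_smul' := fun _ _ => rfl }
      exact IsPreprimitive.of_surjective (f := f) Function.surjective_id
    · exact (Cfsg.Agent.S3559.result inferInstance (by omega) hpp A inferInstance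
        ⟨inferInstance, hreg⟩).elim (fun h => h inferInstance) h2
  have hyp : Hyp X a := by
    refine ⟨h2, hzg, (g : X) ^ (Nat.card Ω / 2 ^ (Nat.card Ω).factorization 2), ?_, ?_⟩
    · have hd : 2 ^ (Nat.card Ω).factorization 2 ∣ Nat.card Ω := Nat.ordProj_dvd _ _
      rw [orderOf_pow, hgx, Nat.gcd_eq_right (Nat.div_dvd_of_dvd hd),
        Nat.div_div_self hd Nat.card_pos.ne']
    · intro k hk x hx
      have hkA : k ∈ A := Subgroup.zpowers_le.2 (pow_mem g.2 _) hk
      have : (⟨k, hkA⟩ : A) ∈ stabilizer A x := hx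
      rw [hreg x, Subgroup.mem_bot] at this
      exact congrArg Subtype.val this
  refine ⟨hev, hyp, (hyp.hasDihedralSylow hns).2, hcard, hreg, ?_⟩
  haveI := Fintype.ofFinite Ω
  let χ : X →* ℤˣ := Equiv.Perm.sign.comp (MulAction.toPermHom X Ω)
  set σ := MulAction.toPermHom X Ω (g : X) with hσ
  have hmoves : ∀ x : Ω, σ x ≠ x := fun x hx => by
    have : (g : A) ∈ stabilizer A x := hx
    rw [hreg x, Subgroup.mem_bot] at this
    rw [this, orderOf_one] at hgo
    omega
  have hcyc : σ.IsCycle := by
    refine ⟨a, hmoves a, fun y _ => ?_⟩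
    obtain ⟨t, ht⟩ := exists_smul_eq A a y
    obtain ⟨i, hi⟩ := Subgroup.mem_zpowers_iff.1 (hg t)
    refine ⟨i, ?_⟩
    rw [hσ, ← map_zpow]
    show ((g : X) ^ i) • a = y
    rw [← ht, ← hi]
    rfl
  have hsign : χ (g : X) = -1 := by
    show Equiv.Perm.sign σ = -1
    rw [hcyc.sign, show σ.support = Finset.univ from Finset.eq_univ_iff_forall.2 fun x =>
      Equiv.Perm.mem_support.2 (hmoves x), Finset.card_univ, ← Nat.card_eq_fintype_card, hev.neg_one_pow]
  refine ⟨χ.ker, ?_⟩
  rw [Subgroup.index_ker, MonoidHom.range_eq_top.2 fun u => ?_, Subgroup.card_top,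
    Nat.card_eq_fintype_card, Fintype.card_units_int]
  rcases Int.units_eq_one_or u with rfl | rfl
  · exact ⟨1, map_one χ⟩
  · exact ⟨g, hsign⟩

end CfsgLib.Derangements.CyclicTimesZ
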