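import Cfsg.Agent.Lib.Derangements.CyclicTimesZ.Affine

/-!
# The three properties carried through the induction, and their solvable case
-/

set_option autoImplicit false
set_option linter.style.haveILetI false

open Subgroup MulAction

namespace CfsgLib.Derangements.CyclicTimesZ

universe u

/-- What is proved by induction for degree divisible by four: the stabilizer has 2-part at most
two, fixed-point-free involutions are conjugate, and an involution fixing a point and
normalizing a semiregular cyclic 2-subgroup of maximal order inverts it. -/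
def InnerConcl (Y : Type u) [Group Y] {Ω : Type u} [MulAction Y Ω] (a : Ω) : Prop :=
  ¬ 4 ∣ Nat.card (stabilizer Y a) ∧
  (∀ x y : Y, orderOf x = 2 → orderOf y = 2 → (∀ p : Ω, x • p ≠ p) → (∀ p : Ω, y • p ≠ p) →
    IsConj x y) ∧
  (∀ β c : Y, orderOf β = 2 → β • a = a → orderOf c = 2 ^ (Nat.card Ω).factorization 2 →
    (∀ g ∈ Subgroup.zpowers c, ∀ x : Ω, g • x = x → g = 1) →
    β * c * β⁻¹ ∈ Subgroup.zpowers c → β * c * β⁻¹ = c⁻¹)

/-- Fixed-point-free involutions of four points agreeing at one point are equal. -/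
theorem perm_four_eq {Ω : Type*} [Finite Ω] (h4 : Nat.card Ω = 4) {σ τ : Ω → Ω}
    (hσ : ∀ p, σ (σ p) = p) (hτ : ∀ p, τ (τ p) = p) (hσf : ∀ p, σ p ≠ p) (hτf : ∀ p, τ p ≠ p)
    {a : Ω} (ha : σ a = τ a) : σ = τ := by
  classical
  haveI := Fintype.ofFinite Ω
  funext p
  by_cases hpa : p = a
  · subst hpa; exact ha
  by_cases hpb : p = σ a
  · subst hpb
    rw [hσ, ha, hτ]
  by_contra hne
  have hsub := Finset.subset_univ ({a, σ a, p, σ p, τ p} : Finset Ω)
  have h5 : ({a, σ a, p, σ p, τ p} : Finset Ω).card = 5 := by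
    have e1 : σ a ≠ a := hσf a
    have e2 : σ p ≠ p := hσf p
    have e3 : τ p ≠ p := hτf p
    have e4 : σ p ≠ a := fun h => hpb (by rw [← hσ p, h])
    have e5 : σ p ≠ σ a := fun h => hpa (by rw [← hσ p, h, hσ])
    have e6 : τ p ≠ a := fun h => hpb (by rw [← hτ p, h, ha])
    have e7 : τ p ≠ σ a := fun h => hpa (by rw [← hτ p, h, ha, hτ])
    rw [Finset.card_insert_of_notMem, Finset.card_insert_of_notMem, Finset.card_insert_of_notMem,
      Finset.card_insert_of_notMem, Finset.card_singleton]
    · simpa using hne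
    · simp [Ne.symm e2, Ne.symm e3]
    · simp [Ne.symm hpb, Ne.symm e5, Ne.symm e7]
    · simp [Ne.symm e1, Ne.symm hpa, Ne.symm e4, Ne.symm e6]
  have := Finset.card_le_card hsub
  rw [h5, Finset.card_univ, ← Nat.card_eq_fintype_card, h4] at this
  omega

variable {Y : Type u} [Group Y] [Finite Y] {Ω : Type u} [MulAction Y Ω] [Finite Ω]
  [FaithfulSMul Y Ω] {a : Ω}

theorem Hyp.inner_of_solvable (h : Hyp Y a) (h4 : 4 ∣ Nat.card Ω) [Group.IsSolvable Y] :
    InnerConcl Y a := by
  classical
  haveI := h.two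
  haveI := h.pretransitive
  haveI : Nonempty Ω := ⟨a⟩
  have hpos : 0 < Nat.card Ω := Nat.card_pos
  have htop : (⊤ : Subgroup Y) ≠ ⊥ := fun ht => by
    have h1 := MulAction.index_stabilizer_of_transitive Y a
    have h2 := (stabilizer Y a).index_dvd_card
    rw [h1, ← Subgroup.card_top (G := Y), ht, Subgroup.card_bot] at h2
    have := Nat.le_of_dvd one_pos h2
    have := Nat.le_of_dvd hpos h4
    omega
  have hn : Nat.card Ω = 4 := by
    rcases h.affine_card (even_iff_two_dvd.2 ((by norm_num : 2 ∣ 4).trans h4)) ⊤ htop with h2 | h2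
    · rw [h2] at h4; norm_num at h4
    · exact h2
  refine ⟨fun hdvd => ?_, fun x y hx hy hxf hyf => ?_, fun β c hβ hβa hc hcsemi hnorm => ?_⟩
  · have h1 : Nat.card Y ∣ 24 := by
      have h1 := Subgroup.card_dvd_of_injective (MulAction.toPermHom Y Ω) MulAction.toPerm_injective
      rwa [Nat.card_perm, hn] at h1
    rw [← Subgroup.card_mul_index (stabilizer Y a), MulAction.index_stabilizer_of_transitive Y a,
      hn] at h1
    obtain ⟨q, hq⟩ := hdvd
    obtain ⟨w, hw⟩ := h1
    rw [hq] at hw
    have : 24 = 16 * (q * w) := by rw [hw]; ring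
    omega
  · obtain ⟨g, hg1, hg2⟩ := MulAction.is_two_pretransitive_iff.1 h.two (hxf a).symm (hyf a).symm
    refine isConj_iff.2 ⟨g, eq_of_smul_eq_smul (α := Ω) fun p => ?_⟩
    have hga : g⁻¹ • a = a := inv_smul_eq_iff.2 hg1.symm
    have hkey := perm_four_eq hn (σ := fun q : Ω => (g * x * g⁻¹) • q) (τ := fun q : Ω => y • q)
      (fun q => by
        rw [← mul_smul, show g * x * g⁻¹ * (g * x * g⁻¹) = g * (x * x) * g⁻¹ by group,
          mul_self_of_orderOf hx, mul_one, mul_inv_cancel, one_smul])
      (fun q => by rw [← mul_smul, mul_self_of_orderOf hy, one_smul])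
      (fun q hq => hxf (g⁻¹ • q) (by rwa [mul_smul, mul_smul, ← eq_inv_smul_iff] at hq))
      hyf (a := a) (by simp only [mul_smul, hga, hg2])
    exact congrFun hkey p
  · rw [hn, show (4 : ℕ) = 2 ^ 2 by norm_num, Nat.prime_two.factorization_pow,
      Finsupp.single_eq_same] at hc
    norm_num at hc
    obtain ⟨i, hi, hic⟩ := Finset.mem_image.1
      ((isOfFinOrder_of_finite c).mem_zpowers_iff_mem_range_orderOf.1 hnorm)
    rw [Finset.mem_range, hc] at hi
    interval_cases i
    · rw [pow_zero, eq_comm, conj_eq_one_iff] at hic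
      rw [hic, orderOf_one] at hc
      norm_num at hc
    · exfalso
      rw [pow_one] at hic
      have hcomm : Commute β c := mul_inv_eq_iff_eq_mul.1 hic.symm
      refine ne_one_of_orderOf hβ (eq_of_smul_eq_smul (α := Ω) fun p => ?_)
      have hsurj : Function.Surjective (fun g : Subgroup.zpowers c => (g : Y) • a) := by
        refine ((Nat.bijective_iff_injective_and_card _).2 ⟨fun g g' hgg => Subtype.ext ?_, ?_⟩).2
        · have := hcsemi _ (mul_mem (inv_mem g'.2) g.2) a (by
            show ((g' : Y)⁻¹ * g) • a = a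
            rw [mul_smul]
            exact inv_smul_eq_iff.2 hgg)
          exact (inv_mul_eq_one.1 this).symm
        · rw [Nat.card_zpowers, hc, hn]
      obtain ⟨⟨g, hg⟩, rfl⟩ := hsurj p
      obtain ⟨k, rfl⟩ := Subgroup.mem_zpowers_iff.1 hg
      show β • c ^ k • a = (1 : Y) • c ^ k • a
      rw [one_smul, ← mul_smul, (hcomm.zpow_right k).eq, mul_smul, hβa]
    · exfalso
      have h2 := congrArg orderOf hic
      rw [orderOf_conj, orderOf_pow, hc] at h2
      norm_num at h2
    · rw [← hic, eq_inv_iff_mul_eq_one, ← pow_succ, show 3 + 1 = orderOf c from hc.symm, pow_orderOf_eq_one]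

end CfsgLib.Derangements.CyclicTimesZ
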