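import Cfsg.Agent.Lib.Derangements.CyclicTimesZ.Inner

/-!
# Doubly transitive groups with Z-group stabilizer have dihedral Sylow 2-subgroups
-/

set_option autoImplicit false
set_option linter.style.haveILetI false

open Subgroup MulAction

namespace CfsgLib.Derangements.CyclicTimesZ

universe u

theorem inner_aux (N : ℕ) : ∀ (Y Ω : Type u) [Group Y] [Finite Y] [MulAction Y Ω] [Finite Ω]
    [FaithfulSMul Y Ω] (a : Ω), Nat.card Y = N → Hyp Y a → 4 ∣ Nat.card Ω → InnerConcl Y a := by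
  induction N using Nat.strong_induction_on with
  | _ N ih =>
  intro Y Ω _ _ _ _ _ a hN h h4
  by_cases hs : Group.IsSolvable Y
  · exact h.inner_of_solvable h4
  have hn : Even (Nat.card Ω) := even_iff_two_dvd.2 ((by norm_num : 2 ∣ 4).trans h4)
  have hni := h.stab_not_four_dvd hs h4 fun Y' Ω' _ _ _ _ _ a' hlt h' h4' =>
    ih _ (hN ▸ hlt) Y' Ω' a' rfl h' h4'
  haveI : Nonempty Ω := ⟨a⟩
  have hb : (Nat.card (stabilizer Y a)).factorization 2 = 1 := by
    have h0 := h.stab_two_pos hs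
    have h2 : ¬ 2 ≤ (Nat.card (stabilizer Y a)).factorization 2 := fun h2 =>
      hni ((Nat.prime_two.pow_dvd_iff_le_factorization Nat.card_pos.ne').2 h2)
    omega
  have hv : 2 ≤ (Nat.card Ω).factorization 2 :=
    (Nat.prime_two.pow_dvd_iff_le_factorization Nat.card_pos.ne').1 h4
  obtain ⟨β, α, hβ, hβa, hα, hαs, hnorm⟩ := h.exists_pair hb
  obtain ⟨-, hcl, -⟩ := h.pair_inverts hs hn hb hv rfl hβ hβa hα hαs hnorm
  refine ⟨hni, fun x y hx hy hxf hyf => ?_, fun β' c' hβ' hβa' hc' hcs' hn' =>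
    (h.pair_inverts hs hn hb hv rfl hβ' hβa' hc' hcs' hn').1⟩
  have key : ∀ w : Y, orderOf w = 2 → (∀ p : Ω, w • p ≠ p) →
      IsConj (α ^ 2 ^ ((Nat.card Ω).factorization 2 - 1)) w := fun w hw hwf => by
    refine (hcl w hw).resolve_left fun hc => ?_
    obtain ⟨g, hg⟩ := isConj_iff.1 hc
    exact hwf (g • a) (by rw [← hg, mul_smul, inv_smul_smul, mul_smul, hβa])
  exact (key x hx hxf).symm.trans (key y hy hyf)

variable {Y : Type u} [Group Y] [Finite Y] {Ω : Type u} [MulAction Y Ω] [Finite Ω]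
  [FaithfulSMul Y Ω] {a : Ω}

/-- An insoluble doubly transitive group with Z-group stabilizer and a semiregular cyclic
2-subgroup of maximal order has even degree and dihedral Sylow 2-subgroups. -/
theorem Hyp.hasDihedralSylow (h : Hyp Y a) (hns : ¬ Group.IsSolvable Y) :
    Even (Nat.card Ω) ∧ CfsgLib.GW.HasDihedralSylow Y := by
  haveI : Fact (Nat.Prime 2) := ⟨Nat.prime_two⟩
  haveI : Nonempty Ω := ⟨a⟩
  haveI := h.zg
  set v := (Nat.card Ω).factorization 2 with hv
  set b := (Nat.card (stabilizer Y a)).factorization 2 with hb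
  by_cases hv0 : v = 0
  · -- odd degree: a Sylow subgroup of the stabilizer is one of the whole group
    exfalso
    obtain ⟨Q⟩ : Nonempty (Sylow 2 (stabilizer Y a)) := inferInstance
    haveI : IsCyclic (Q : Subgroup (stabilizer Y a)) := h.zg.isZGroup 2 Nat.prime_two Q
    obtain ⟨S, hS⟩ := (Q.isPGroup'.map (stabilizer Y a).subtype).exists_le_sylow
    have heq : (Q : Subgroup (stabilizer Y a)).map (stabilizer Y a).subtype = (S : Subgroup Y) :=
      Subgroup.eq_of_le_of_card_ge hS (by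
        rw [Subgroup.card_map_of_injective (stabilizer Y a).subtype_injective, Q.card_eq_multiplicity,
          S.card_eq_multiplicity, h.card_factorization, ← hv, hv0, zero_add])
    let e := ((Q : Subgroup (stabilizer Y a)).equivMapOfInjective _
      (stabilizer Y a).subtype_injective).trans (MulEquiv.subgroupCongr heq)
    exact hns (CfsgLib.GWApps.GenDihedral.isSolvable_of_cyclic_sylow S
      (isCyclic_of_surjective e.toMonoidHom e.surjective))
  have hn : Even (Nat.card Ω) := even_iff_two_dvd.2 (Nat.dvd_of_factorization_pos hv0)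
  refine ⟨hn, ?_⟩
  have hb0 := h.stab_two_pos hns
  by_cases hv2 : 2 ≤ v
  · have h4 : 4 ∣ Nat.card Ω := (Nat.prime_two.pow_dvd_iff_le_factorization Nat.card_pos.ne').2 hv2
    have hi := (inner_aux _ Y Ω a rfl h h4).1
    have hb1 : b = 1 := by
      have h2 : ¬ 2 ≤ b := fun h2 =>
        hi ((Nat.prime_two.pow_dvd_iff_le_factorization Nat.card_pos.ne').2 h2)
      omega
    obtain ⟨β, α, hβ, hβa, hα, hαs, hnorm⟩ := h.exists_pair hb1
    exact (h.pair_inverts hns hn hb1 hv2 rfl hβ hβa hα hαs hnorm).2.2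
  have hv1 : v = 1 := by omega
  obtain ⟨Q⟩ : Nonempty (Sylow 2 (stabilizer Y a)) := inferInstance
  haveI : IsCyclic (Q : Subgroup (stabilizer Y a)) := h.zg.isZGroup 2 Nat.prime_two Q
  obtain ⟨βQ, hβQ⟩ := IsCyclic.exists_generator (α := (Q : Subgroup (stabilizer Y a)))
  set β : Y := ((βQ : stabilizer Y a) : Y) with hβdef
  have hβ : orderOf β = 2 ^ b := by
    rw [hβdef, Subgroup.orderOf_coe, Subgroup.orderOf_coe,
      orderOf_eq_card_of_forall_mem_zpowers hβQ, Q.card_eq_multiplicity, hb]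
  have hβa : β ∈ stabilizer Y a := (βQ : stabilizer Y a).2
  obtain ⟨S, hS⟩ := (CfsgLib.TwoGroupTricks.isPGroup_zpowers (p := 2) (x := β) ⟨b, hβ⟩).exists_le_sylow
  have hβS : β ∈ (S : Subgroup Y) := hS (Subgroup.mem_zpowers β)
  obtain ⟨α, hαS, hα, hαs⟩ := h.exists_sylow S
  rw [← hv, hv1, pow_one] at hα
  have hα2 := mul_self_of_orderOf hα
  have hSc : Nat.card (S : Subgroup Y) = 2 ^ (b + 1) := by
    rw [S.card_eq_multiplicity, h.card_factorization, ← hv, hv1, add_comm]
  have hαβ : α ∉ Subgroup.zpowers β := fun hh => by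
    have : α • a = a := (Subgroup.zpowers_le.2 hβa) hh
    exact ne_one_of_orderOf hα (hαs α (Subgroup.mem_zpowers α) a this)
  by_cases hb1 : b = 1
  · -- a four-group
    haveI : Subgroup.zpowers β ≤ (S : Subgroup Y) := Subgroup.zpowers_le.2 hβS
    refine hasDihedralSylow_of_inverts S hβS hαS hα2 hαβ (r := 1) le_rfl (by rw [hβ, hb1]) (by rw [hSc, hb1]) ?_
    have hP : IsPGroup 2 (S : Subgroup Y) := S.isPGroup'
    letI := IsPGroup.commGroupOfCardEqPrimeSq (p := 2) (G := (S : Subgroup Y)) (by rw [hSc, hb1])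
    have h1 : α * β = β * α := congrArg Subtype.val (mul_comm (⟨α, hαS⟩ : (S : Subgroup Y)) ⟨β, hβS⟩)
    rw [h1, mul_inv_cancel_right, eq_inv_iff_mul_eq_one]
    exact mul_self_of_orderOf (by rw [hβ, hb1, pow_one])
  have hb2 : 2 ≤ b := by omega
  have hne : ¬ IsConj α (β ^ 2 ^ (b - 1)) := fun hh => by
    obtain ⟨g, hg⟩ := isConj_iff.1 hh
    have hfix : (β ^ 2 ^ (b - 1)) • a = a := pow_mem hβa _
    rw [← hg, mul_smul, mul_smul, ← eq_inv_smul_iff] at hfix
    exact ne_one_of_orderOf hα (hαs α (Subgroup.mem_zpowers α) _ hfix)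
  obtain ⟨hinv, -⟩ := index_two_inverts (h.no_isolated hns hn) S hβS hαS hα2 hαβ hb2 hβ hSc hne
  exact hasDihedralSylow_of_inverts S hβS hαS hα2 hαβ (by omega) hβ hSc hinv

end CfsgLib.Derangements.CyclicTimesZ
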